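import Cfsg.Agent.Lib.FGS68.PLength
import Cfsg.Agent.Lib.PLocal.Constrained

/-! The upper `p`-series through elements: monotonicity, quotients, subdirect products. -/

set_option autoImplicit false

open Cfsg

namespace CfsgLib.PLengthHH

variable {G : Type*} [Group G] [Finite G] {p : ℕ} [hp : Fact p.Prime]

/-- An element of `p`-power order. -/
def IsPEl (p : ℕ) {G : Type*} [Monoid G] (g : G) : Prop := ∃ k : ℕ, g ^ p ^ k = 1

omit [Finite G] hp in
theorem IsPEl.map {H : Type*} [Group H] (f : G →* H) {g : G} (h : IsPEl p g) : IsPEl p (f g) :=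
  h.imp fun k hk => by rw [← map_pow, hk, map_one]

omit [Finite G] in
theorem IsPEl.eq_one {g : G} (h : IsPEl p g) (h' : (orderOf g).Coprime p) : g = 1 := by
  obtain ⟨k, hk⟩ := h
  exact orderOf_eq_one_iff.1 (Nat.eq_one_of_dvd_coprimes (h'.pow_right k) dvd_rfl
    (orderOf_dvd_of_pow_eq_one hk))

omit hp in
theorem IsPEl.of_isPGroup {P : Subgroup G} (hP : IsPGroup p P) {g : G} (hg : g ∈ P) : IsPEl p g :=
  (hP ⟨g, hg⟩).imp fun _ hk => congrArg Subtype.val hk

theorem exists_pow_coprime (x : G) : ∃ j : ℕ, (orderOf (x ^ p ^ j)).Coprime p := by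
  refine ⟨(orderOf x).factorization p, ?_⟩
  rw [orderOf_pow, Nat.gcd_eq_right (Nat.ordProj_dvd _ p)]
  exact (Nat.coprime_ordCompl hp.out (orderOf_pos x).ne').symm

theorem eq_one_of_coprime_pow {x : G} {j : ℕ} (h : (orderOf x).Coprime p) (hj : x ^ p ^ j = 1) :
    x = 1 :=
  IsPEl.eq_one ⟨j, hj⟩ h

/-- A subgroup without non-trivial `p`-elements has order prime to `p`. -/
theorem card_coprime_of_pel {M : Subgroup G} (h : ∀ x ∈ M, IsPEl p x → x = 1) :
    (Nat.card M).Coprime p := by
  refine ((Nat.Prime.coprime_iff_not_dvd hp.out).2 fun hd => ?_).symm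
  obtain ⟨g, hg⟩ := exists_prime_orderOf_dvd_card' p hd
  have h1 := h g g.2 ⟨1, by rw [pow_one, ← hg, ← Subgroup.orderOf_coe, pow_orderOf_eq_one]⟩
  rw [← Subgroup.orderOf_coe, h1, orderOf_one] at hg
  exact hp.out.one_lt.ne hg

theorem pel_mem_of_upper_odd {k : ℕ} {x : G} (hx : x ∈ (upperPSeries p G (2 * k + 1)).1)
    (h : IsPEl p x) : x ∈ (upperPSeries p G (2 * k)).1 := by
  rw [CfsgLib.PLoc.upperPSeries_odd] at hx
  refine (QuotientGroup.eq_one_iff x).1 (IsPEl.eq_one (h.map (QuotientGroup.mk' _)) ?_)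
  exact (CfsgLib.PLoc.pPrimeCore_coprime p).coprime_dvd_left (Subgroup.orderOf_dvd_natCard _ hx)

theorem coprime_mem_of_upper_even {k : ℕ} {x : G} (hx : x ∈ (upperPSeries p G (2 * k + 2)).1)
    (h : (orderOf x).Coprime p) : x ∈ (upperPSeries p G (2 * k + 1)).1 := by
  rw [CfsgLib.PLoc.upperPSeries_even] at hx
  refine (QuotientGroup.eq_one_iff x).1 (IsPEl.eq_one
    (IsPEl.of_isPGroup (CfsgLib.Solvable.pCore_isPGroup p _) hx) ?_)
  exact h.coprime_dvd_left (orderOf_map_dvd (QuotientGroup.mk' _) x)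

theorem le_upper_odd {k : ℕ} {N : Subgroup G} (hN : N.Normal)
    (h : ∀ x ∈ N, IsPEl p x → x ∈ (upperPSeries p G (2 * k)).1) :
    N ≤ (upperPSeries p G (2 * k + 1)).1 := by
  rw [CfsgLib.PLoc.upperPSeries_odd, ← Subgroup.map_le_iff_le_comap]
  set π := QuotientGroup.mk' (upperPSeries p G (2 * k)).1
  refine CfsgLib.PLoc.le_pPrimeCore_of (hN.map π (QuotientGroup.mk'_surjective _)) ?_
  refine card_coprime_of_pel fun y hy hyp => ?_
  obtain ⟨x, hxp, hx⟩ := CfsgLib.FGS68.exists_pElement_lift (π.subgroupMap N)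
    (π.subgroupMap_surjective N) (y := ⟨y, hy⟩) (hyp.imp fun j hj => Subtype.ext hj)
  have h1 := h x x.2 (hxp.imp fun j hj => congrArg Subtype.val hj)
  rw [show y = π x from (congrArg Subtype.val hx).symm]
  exact (QuotientGroup.eq_one_iff _).2 h1

theorem le_upper_even {k : ℕ} {N : Subgroup G} (hN : N.Normal)
    (h : ∀ x ∈ N, (orderOf x).Coprime p → x ∈ (upperPSeries p G (2 * k + 1)).1) :
    N ≤ (upperPSeries p G (2 * k + 2)).1 := by
  rw [CfsgLib.PLoc.upperPSeries_even, ← Subgroup.map_le_iff_le_comap]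
  set π := QuotientGroup.mk' (upperPSeries p G (2 * k + 1)).1
  refine CfsgLib.PLoc.le_pCore_of (hN.map π (QuotientGroup.mk'_surjective _)) ?_
  refine CfsgLib.PLoc.isPGroup_of_coprime_order_trivial fun y hy hyc => ?_
  obtain ⟨x, hx, rfl⟩ := hy
  obtain ⟨j, hj⟩ := exists_pow_coprime (p := p) x
  refine eq_one_of_coprime_pow (j := j) hyc ?_
  rw [← map_pow]
  exact (QuotientGroup.eq_one_iff _).2 (h _ (pow_mem hx _) hj)

theorem upper_le_succ (j : ℕ) : (upperPSeries p G j).1 ≤ (upperPSeries p G (j + 1)).1 := by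
  rcases Nat.even_or_odd' j with ⟨k, rfl | rfl⟩
  · exact le_upper_odd (upperPSeries p G (2 * k)).2 fun x hx _ => hx
  · exact le_upper_even (upperPSeries p G (2 * k + 1)).2 fun x hx _ => hx

theorem upper_mono {i j : ℕ} (h : i ≤ j) : (upperPSeries p G i).1 ≤ (upperPSeries p G j).1 := by
  induction h with
  | refl => exact le_rfl
  | step _ ih => exact ih.trans (upper_le_succ _)

theorem pLengthLE_mono {k l : ℕ} (h : k ≤ l) (hk : PLengthLE p k G) : PLengthLE p l G :=
  top_le_iff.1 (hk.symm.le.trans (upper_mono (by omega)))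

theorem upper_map_le {H : Type*} [Group H] [Finite H] (f : G →* H) (hf : Function.Surjective f) :
    ∀ j, (upperPSeries p G j).1.map f ≤ (upperPSeries p H j).1 := by
  intro j
  induction j with
  | zero =>
    rw [show (upperPSeries p G 0).1 = ⊥ from rfl, Subgroup.map_bot]
    exact bot_le
  | succ j ih =>
    have hn := (upperPSeries p G (j + 1)).2.map f hf
    rcases Nat.even_or_odd' j with ⟨k, rfl | rfl⟩
    · refine le_upper_odd hn fun y hy hyp => ?_
      obtain ⟨x, hxp, hx⟩ := CfsgLib.FGS68.exists_pElement_lift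
        (f.subgroupMap (upperPSeries p G (2 * k + 1)).1) (f.subgroupMap_surjective _) (y := ⟨y, hy⟩)
        (hyp.imp fun i hi => Subtype.ext hi)
      rw [show y = f x from (congrArg Subtype.val hx).symm]
      exact ih ⟨_, pel_mem_of_upper_odd x.2 (hxp.imp fun i hi => congrArg Subtype.val hi), rfl⟩
    · refine le_upper_even hn fun y hy hyc => ?_
      obtain ⟨x, hx, rfl⟩ := hy
      obtain ⟨i, hi⟩ := exists_pow_coprime (p := p) x
      have h1 : f x ^ p ^ i ∈ (upperPSeries p H (2 * k + 1)).1 := by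
        rw [← map_pow]
        exact ih ⟨_, coprime_mem_of_upper_even (pow_mem hx _) hi, rfl⟩
      haveI := (upperPSeries p H (2 * k + 1)).2
      refine (QuotientGroup.eq_one_iff _).1 (eq_one_of_coprime_pow (j := i)
        (hyc.coprime_dvd_left (orderOf_map_dvd (QuotientGroup.mk' _) (f x))) ?_)
      show (QuotientGroup.mk' _) (f x) ^ p ^ i = 1
      rw [← map_pow]
      exact (QuotientGroup.eq_one_iff _).2 h1

theorem pLengthLE_of_surjective {H : Type*} [Group H] [Finite H] {f : G →* H} (hf : Function.Surjective f)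
    {k : ℕ} (h : PLengthLE p k G) : PLengthLE p k H := by
  have h1 := upper_map_le f hf (p := p) (2 * k + 1)
  rw [show (upperPSeries p G (2 * k + 1)).1 = ⊤ from h, Subgroup.map_top_of_surjective f hf] at h1
  exact top_le_iff.1 h1

omit hp in
theorem pLengthLE_succ' {H : Type*} [Group H] {f : G →* H} (hf : Function.Surjective f)
    (hker : f.ker = pPrimePCore p G) {k : ℕ} (h : PLengthLE p k H) : PLengthLE p (k + 1) G := by
  unfold PLengthLE at h ⊢
  rw [show 2 * (k + 1) + 1 = 2 * k + 1 + 2 by ring, ← CfsgLib.FGS68.comap_upperPSeries f hf hker, h,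
    Subgroup.comap_top]

omit hp in
theorem pLengthLE_pred {H : Type*} [Group H] {f : G →* H} (hf : Function.Surjective f)
    (hker : f.ker = pPrimePCore p G) {k : ℕ} (h : PLengthLE p (k + 1) G) : PLengthLE p k H := by
  unfold PLengthLE at h ⊢
  apply Subgroup.comap_injective hf
  rw [CfsgLib.FGS68.comap_upperPSeries f hf hker, Subgroup.comap_top]
  exact (show 2 * k + 1 + 2 = 2 * (k + 1) + 1 by ring) ▸ h

theorem pLengthLE_zero_iff : PLengthLE p 0 G ↔ (Nat.card G).Coprime p := by
  constructor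
  · intro h
    rw [← Subgroup.card_top (G := G)]
    refine card_coprime_of_pel fun x _ hx => ?_
    have h1 := pel_mem_of_upper_odd (k := 0) (x := x) (by
      rw [show (upperPSeries p G (2 * 0 + 1)).1 = ⊤ from h]; trivial) hx
    exact Subgroup.mem_bot.1 h1
  · intro h
    refine CfsgLib.FGS68.pLengthLE_zero_of_not_dvd fun hd => ?_
    exact (Nat.Prime.coprime_iff_not_dvd hp.out).1 h.symm hd

/-- A group embedded, up to a `p'`-kernel, in a product of groups of `p`-length at most `k`. -/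
theorem pLengthLE_of_family {ι : Type*} (N : ι → Subgroup G) [∀ i, (N i).Normal] {k : ℕ}
    (hN : (Nat.card (⨅ i, N i : Subgroup G)).Coprime p) (h : ∀ i, PLengthLE p k (G ⧸ N i)) :
    PLengthLE p k G := by
  let X : ℕ → Subgroup G := fun j => ⨅ i, (upperPSeries p (G ⧸ N i) j).1.comap (QuotientGroup.mk' (N i))
  have hXn : ∀ j, (X j).Normal := fun j =>
    Subgroup.normal_iInf_normal fun i => ((upperPSeries p (G ⧸ N i) j).2.comap _)
  have hX0 : X 0 = ⨅ i, N i := by
    refine iInf_congr fun i => ?_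
    rw [show (upperPSeries p (G ⧸ N i) 0).1 = ⊥ from rfl, MonoidHom.comap_bot, QuotientGroup.ker_mk']
  have key : ∀ j, X (j + 1) ≤ (upperPSeries p G (j + 1)).1 := by
    intro j
    induction j with
    | zero =>
      refine le_upper_odd (k := 0) (hXn 1) fun x hx hxp => ?_
      have h1 : x ∈ X 0 := Subgroup.mem_iInf.2 fun i =>
        pel_mem_of_upper_odd (k := 0) (Subgroup.mem_iInf.1 hx i) (hxp.map _)
      rw [hX0] at h1
      rw [hxp.eq_one (hN.coprime_dvd_left (Subgroup.orderOf_dvd_natCard _ h1))]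
      exact one_mem _
    | succ j ih =>
      rcases Nat.even_or_odd' j with ⟨m, rfl | rfl⟩
      · refine le_upper_even (k := m) (hXn _) fun x hx hxc => ih (Subgroup.mem_iInf.2 fun i => ?_)
        exact coprime_mem_of_upper_even (Subgroup.mem_iInf.1 hx i)
          (hxc.coprime_dvd_left (orderOf_map_dvd _ x))
      · refine le_upper_odd (k := m + 1) (hXn _) fun x hx hxp => ih (Subgroup.mem_iInf.2 fun i => ?_)
        exact pel_mem_of_upper_odd (k := m + 1) (Subgroup.mem_iInf.1 hx i) (hxp.map _)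
  refine top_le_iff.1 (le_trans ?_ (key (2 * k)))
  exact le_iInf fun i => by rw [show (upperPSeries p (G ⧸ N i) (2 * k + 1)).1 = ⊤ from h i, Subgroup.comap_top]

theorem pel_mem_pPrimeCore_quotient {x : G} (hx : x ∈ pPrimePCore p G) (hc : (orderOf x).Coprime p) :
    x ∈ pPrimeCore p G := by
  rw [← CfsgLib.FGS68.upperPSeries_two] at hx
  rw [← CfsgLib.FGS68.upperPSeries_one]
  exact coprime_mem_of_upper_even (k := 0) hx hc

/-- `O_p(G / O_{p',p}(G)) = 1`. -/
theorem pCore_eq_bot_of_ker {H : Type*} [Group H] [Finite H] {f : G →* H} (hf : Function.Surjective f)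
    (hker : f.ker = pPrimePCore p G) : pCore p H = ⊥ := by
  have hle : (pCore p H).comap f ≤ pPrimePCore p G := by
    rw [← CfsgLib.FGS68.upperPSeries_two]
    refine le_upper_even (k := 0) ((CfsgLib.Solvable.pCore_normal p H).comap f) fun x hx hxc => ?_
    have h1 : f x = 1 := IsPEl.eq_one (IsPEl.of_isPGroup (CfsgLib.Solvable.pCore_isPGroup p H) hx)
      (hxc.coprime_dvd_left (orderOf_map_dvd f x))
    have h2 : x ∈ pPrimePCore p G := hker ▸ (MonoidHom.mem_ker.2 h1)
    exact (CfsgLib.FGS68.upperPSeries_one (G := G) (p := p)).symm ▸ pel_mem_pPrimeCore_quotient h2 hxc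
  rw [eq_bot_iff]
  intro y hy
  obtain ⟨x, rfl⟩ := hf y
  exact Subgroup.mem_bot.2 (MonoidHom.mem_ker.1 (hker.symm ▸ hle hy))

end CfsgLib.PLengthHH
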