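import Cfsg.Agent.Lib.PLengthHH.Exceptional

/-! One step up the upper `p`-series: `H = (G / O_{p'}) / O_p`. -/

set_option autoImplicit false

open Cfsg

namespace CfsgLib.PLengthHH

universe u

variable {G : Type u} [Group G] [Finite G] {p : ℕ} [hp : Fact p.Prime]

/-- `K = G / O_{p'}(G)`, with its representation. -/
structure StepData (p : ℕ) [Fact p.Prime] (G : Type u) [Group G] where
  K : Type u
  [grpK : Group K]
  [finK : Finite K]
  toK : G →* K
  toK_surj : Function.Surjective toK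
  solK : IsPSolvable p K
  R : FrattiniRep p K
  H : Type u
  [grpH : Group H]
  [finH : Finite H]
  π : K →* H
  π_surj : Function.Surjective π
  π_ker : π.ker = pCore p K
  ker_comp : (π.comp toK).ker = pPrimePCore p G
  solH : IsPSolvable p H
  hOp : pCore p H = ⊥
  ρ : H →* Module.End (Fbar p) (Fin R.dim → Fbar p)
  ρ_inj : Function.Injective ρ
  ρ_π : ∀ g : K, ρ (π g) = R.ρ g

attribute [instance] StepData.grpK StepData.finK StepData.grpH StepData.finH

theorem exists_stepData (hG : IsPSolvable p G) : Nonempty (StepData p G) := by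
  haveI : (pPrimeCore p G).Normal := CfsgLib.Solvable.pPrimeCore_normal p G
  have hs1 := QuotientGroup.mk'_surjective (pPrimeCore p G)
  have hK : IsPSolvable p (G ⧸ pPrimeCore p G) := CfsgLib.PLoc.isPSolvable_of_surjective hs1 hG
  have hO : pPrimeCore p (G ⧸ pPrimeCore p G) = ⊥ := by
    rw [eq_bot_iff]
    intro y hy
    obtain ⟨x, rfl⟩ := hs1 y
    refine Subgroup.mem_bot.2 ((QuotientGroup.eq_one_iff x).2 ?_)
    rw [CfsgLib.PLoc.pPrimeCore_eq_comap hs1 (by
      rw [QuotientGroup.ker_mk']; exact CfsgLib.PLoc.pPrimeCore_coprime p)]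
    exact hy
  obtain ⟨R⟩ := exists_frattiniRep hK hO
  haveI : (pCore p (G ⧸ pPrimeCore p G)).Normal := CfsgLib.Solvable.pCore_normal p _
  obtain ⟨ρ, hρ, hρπ⟩ := R.exists_quotient
  have hker : ((QuotientGroup.mk' (pCore p (G ⧸ pPrimeCore p G))).comp
      (QuotientGroup.mk' (pPrimeCore p G))).ker = pPrimePCore p G := by
    rw [← MonoidHom.comap_ker, QuotientGroup.ker_mk', pPrimePCore]
  exact ⟨{ K := _, toK := _, toK_surj := hs1, solK := hK, R := R, H := _,
           π := QuotientGroup.mk' _, π_surj := QuotientGroup.mk'_surjective _, π_ker := QuotientGroup.ker_mk' _,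
           ker_comp := hker,
           solH := CfsgLib.PLoc.isPSolvable_of_surjective (QuotientGroup.mk'_surjective _) hK,
           hOp := pCore_eq_bot_of_ker (f := (QuotientGroup.mk' (pCore p (G ⧸ pPrimeCore p G))).comp
             (QuotientGroup.mk' (pPrimeCore p G)))
             (fun y => by obtain ⟨a, rfl⟩ := QuotientGroup.mk'_surjective _ y; obtain ⟨b, rfl⟩ := hs1 a; exact ⟨b, rfl⟩) hker,
           ρ := ρ, ρ_inj := hρ, ρ_π := hρπ }⟩

namespace StepData

variable (D : StepData p G)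

theorem comp_surj : Function.Surjective (D.π.comp D.toK) := fun y => by
  obtain ⟨a, rfl⟩ := D.π_surj y
  obtain ⟨b, rfl⟩ := D.toK_surj a
  exact ⟨b, rfl⟩

theorem pLengthLE_succ {k : ℕ} (h : PLengthLE p k D.H) : PLengthLE p (k + 1) G :=
  pLengthLE_succ' D.comp_surj D.ker_comp h

theorem expH {n : ℕ} (h : CfsgLib.FGS68.ExpLE p n G) : CfsgLib.FGS68.ExpLE p n D.H :=
  h.of_surjective D.comp_surj

/-- `p`-elements of `H` have small degree. -/
theorem degree {n : ℕ} (hexp : CfsgLib.FGS68.ExpLE p n G) {x : D.H} (hx : IsPEl p x) :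
    (D.ρ x - 1) ^ (p ^ n - 1) = 0 := by
  obtain ⟨h, hh, rfl⟩ := CfsgLib.FGS68.exists_pElement_lift D.π D.π_surj hx
  rw [D.ρ_π]
  exact D.R.degree_of_exp (hexp.of_surjective D.toK_surj) hh

theorem abelianSylowH (hab : ∀ S : Sylow 2 G, IsMulCommutative (S : Subgroup G)) :
    ∀ S : Sylow 2 D.H, IsMulCommutative (S : Subgroup D.H) := by
  intro T
  haveI : Fact (Nat.Prime 2) := ⟨Nat.prime_two⟩
  obtain ⟨S, rfl⟩ := Sylow.mapSurjective_surjective D.comp_surj 2 T
  refine Subgroup.le_centralizer_iff_isMulCommutative.mp ?_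
  rw [Sylow.coe_mapSurjective]
  rintro _ ⟨x, hx, rfl⟩ _ ⟨y, hy, rfl⟩
  rw [← map_mul, ← map_mul, (CfsgLib.PLocal.commute_of_mem_comm (hab S) hy hx).eq]

end StepData

theorem pLengthLE_good_aux (p : ℕ) [hp : Fact p.Prime] (hp2 : p ≠ 2) :
    ∀ (e : ℕ) (G : Type u) [Group G] [Finite G], IsPSolvable p G → CfsgLib.FGS68.ExpLE p e G →
      ((¬ ∃ k : ℕ, p = 2 ^ k + 1) ∨ ∀ S : Sylow 2 G, IsMulCommutative (S : Subgroup G)) →
      PLengthLE p e G := by
  intro e
  induction e with
  | zero =>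
    intro G _ _ _ hexp _
    exact CfsgLib.FGS68.pLengthLE_zero_of_not_dvd (CfsgLib.FGS68.not_dvd_card_of_expLE_zero hexp)
  | succ e ih =>
    intro G _ _ hG hexp hgood
    obtain ⟨D⟩ := exists_stepData (p := p) hG
    have hgood' := hgood.imp_right D.abelianSylowH
    refine D.pLengthLE_succ (ih D.H D.solH (fun x hx => ?_) hgood')
    have h := pow_eq_one_of_degree D.solH D.hOp D.ρ_inj hp2 hgood' (n := e + 1) (by omega)
      (D.expH hexp x hx) (D.degree hexp hx) (by
        have := Nat.pow_pos (n := e + 1) hp.out.pos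
        omega)
    simpa using h

end CfsgLib.PLengthHH
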