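import Cfsg.Agent.Lib.PLengthHH.Rep
import Cfsg.Agent.Lib.PLengthHH.Series
import Cfsg.Agent.Lib.PLocal.Thompson

/-! Consequences of Theorem B for elements of small degree, and powers of `v h`. -/

set_option autoImplicit false

open Cfsg

namespace CfsgLib.PLengthHH

open scoped commutatorElement

universe u

variable {p : ℕ} [hp : Fact p.Prime]

section Rep

variable {H : Type u} [Group H] [Finite H] {d : ℕ}
  (ρ : H →* Module.End (Fbar p) (Fin d → Fbar p))

/-- The alternatives for a `p`-element normalizing a `q`-group. -/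
theorem bound_cases (hp2 : p ≠ 2) {q : ℕ} [hq : Fact q.Prime] (hqp : q ≠ p) {Q : Subgroup H}
    (hQ : IsPGroup q Q) {x : H} (hx : ∀ g ∈ Q, x * g * x⁻¹ ∈ Q) {n : ℕ} (hn : 1 ≤ n)
    (hxn : x ^ p ^ n = 1) {r : ℕ} (hr : (ρ x - 1) ^ r = 0) :
    (∀ g ∈ Q, Commute (ρ g) (ρ (x ^ p ^ (n - 1)))) ∨ p ^ n ≤ r ∨
      (q = 2 ∧ (∃ k : ℕ, p = 2 ^ k + 1) ∧ (¬ ∀ g ∈ Q, ∀ h ∈ Q, Commute (ρ g) (ρ h)) ∧
        p ^ n - p ^ (n - 1) ≤ r) := by
  by_cases hnc : ∀ g ∈ Q, Commute (ρ g) (ρ (x ^ p ^ (n - 1)))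
  · exact Or.inl hnc
  push Not at hnc
  rcases CfsgLib.HallHigman.theoremB p q hqp.symm ρ Q x n r hQ hx hxn hn hnc hr with
    h | ⟨n₀, m, h1, h2, h3, h4, -, h6, h7⟩
  · exact Or.inr (Or.inl h)
  refine Or.inr (Or.inr ?_)
  have hodd : Odd p := hp.out.odd_of_ne_two hp2
  have heven : Even (p ^ n₀ - 1) := by
    obtain ⟨a, ha⟩ := hodd.pow (n := n₀)
    exact ⟨a, by omega⟩
  have hq2 : q = 2 := by
    rw [h4] at heven
    rcases hq.out.eq_two_or_odd' with h | h
    · exact h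
    · exact absurd heven (Nat.not_even_iff_odd.2 h.pow)
  refine ⟨hq2, ?_, h6, le_trans ?_ h7⟩
  · obtain ⟨k, -, hk⟩ := (Nat.dvd_prime_pow Nat.prime_two).1
      (show p - 1 ∣ 2 ^ m by rw [← hq2, ← h4]; simpa using Nat.sub_dvd_pow_sub_pow p 1 n₀)
    exact ⟨k, by have := hp.out.two_le; omega⟩
  · rw [Nat.mul_sub, mul_one, ← pow_add, Nat.sub_add_cancel h2]
    have := Nat.pow_le_pow_right hp.out.pos (show n - n₀ ≤ n - 1 by omega)
    omega

variable {ρ}

/-- An element centralizing every `x`-invariant `q`-subgroup of `O_{p'}(H)` is trivial. -/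
theorem eq_one_of_centralizes (hsol : IsPSolvable p H) (hOp : pCore p H = ⊥) {x : H} {n : ℕ}
    (hxn : x ^ p ^ n = 1)
    (h : ∀ q : ℕ, q.Prime → q ≠ p → ∀ Q : Subgroup H, Q ≤ pPrimeCore p H → IsPGroup q Q →
      (∀ g ∈ Q, x * g * x⁻¹ ∈ Q) → ∀ g ∈ Q, Commute g (x ^ p ^ (n - 1))) :
    x ^ p ^ (n - 1) = 1 := by
  set y := x ^ p ^ (n - 1)
  set O := pPrimeCore p H
  haveI hOn : O.Normal := CfsgLib.Solvable.pPrimeCore_normal p H
  have hOcop : (Nat.card O).Coprime p := CfsgLib.Solvable.pPrimeCore_card_coprime p H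
  have hC : O ≤ Subgroup.centralizer ({y} : Set H) := by
    have hcop : (Nat.card (Subgroup.zpowers x)).Coprime (Nat.card O) := by
      rw [Nat.card_zpowers]
      exact Nat.Coprime.coprime_dvd_left (orderOf_dvd_of_pow_eq_one hxn) (hOcop.symm.pow_left n)
    set C := (Subgroup.centralizer ({y} : Set H)).subgroupOf O
    rw [← Subgroup.subgroupOf_eq_top, ← Subgroup.index_eq_one]
    by_contra hne
    obtain ⟨q, hq, hqd⟩ := Nat.exists_prime_and_dvd hne
    haveI := Fact.mk hq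
    obtain ⟨S, hS⟩ := CfsgLib.Solvable.exists_invariant_sylow (A := Subgroup.zpowers x) (K := O)
      Subgroup.le_normalizer_of_normal hcop (Or.inl inferInstance) q
    have hqp : q ≠ p := by
      rintro rfl
      exact (Nat.Prime.coprime_iff_not_dvd hq).1 hOcop.symm (hqd.trans (Subgroup.index_dvd_card _))
    have hall := h q hq hqp ((S : Subgroup O).map O.subtype) (Subgroup.map_subtype_le _) (S.isPGroup'.map _)
      (fun g hg => (Subgroup.mem_normalizer_iff.1 (hS (Subgroup.mem_zpowers x)) g).1 hg)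
    have hle : (S : Subgroup O) ≤ C := fun s hs =>
      Subgroup.mem_centralizer_singleton_iff.2 (hall _ ⟨s, hs, rfl⟩).eq
    exact S.not_dvd_index (hqd.trans (Subgroup.index_dvd_of_le hle))
  have hy : y ∈ O := by
    refine CfsgLib.PLocal.centralizer_pPrimeCore_le_self hsol hOp ?_
    rw [Subgroup.mem_centralizer_iff]
    exact fun g hg => Subgroup.mem_centralizer_singleton_iff.1 (hC hg)
  refine IsPEl.eq_one ⟨n, ?_⟩ (hOcop.coprime_dvd_left (Subgroup.orderOf_dvd_natCard _ hy))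
  rw [← pow_mul, mul_comm, pow_mul, hxn, one_pow]

omit [Finite H] in
theorem commute_of_commute_rep (hρ : Function.Injective ρ) {g h : H} (hc : Commute (ρ g) (ρ h)) :
    Commute g h :=
  hρ (by rw [map_mul, map_mul]; exact hc.eq)

/-- Degree below `p^n - p^(n-1)`. -/
theorem pow_eq_one_of_small_degree (hsol : IsPSolvable p H) (hOp : pCore p H = ⊥)
    (hρ : Function.Injective ρ) (hp2 : p ≠ 2) {x : H} {n : ℕ} (hn : 1 ≤ n) (hxn : x ^ p ^ n = 1)
    {r : ℕ} (hr : (ρ x - 1) ^ r = 0) (hrn : r < p ^ n - p ^ (n - 1)) : x ^ p ^ (n - 1) = 1 := by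
  refine eq_one_of_centralizes hsol hOp hxn fun q hq hqp Q _ hQ hx g hg => ?_
  haveI := Fact.mk hq
  rcases bound_cases ρ hp2 hqp hQ hx hn hxn hr with h | h | ⟨-, -, -, h⟩
  · exact commute_of_commute_rep hρ (h g hg)
  · exact absurd h (by omega)
  · omega

/-- Degree below `p^n`, outside the exceptional case. -/
theorem pow_eq_one_of_degree (hsol : IsPSolvable p H) (hOp : pCore p H = ⊥)
    (hρ : Function.Injective ρ) (hp2 : p ≠ 2)
    (hgood : (¬ ∃ k : ℕ, p = 2 ^ k + 1) ∨ ∀ S : Sylow 2 H, IsMulCommutative (S : Subgroup H))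
    {x : H} {n : ℕ} (hn : 1 ≤ n) (hxn : x ^ p ^ n = 1)
    {r : ℕ} (hr : (ρ x - 1) ^ r = 0) (hrn : r < p ^ n) : x ^ p ^ (n - 1) = 1 := by
  refine eq_one_of_centralizes hsol hOp hxn fun q hq hqp Q _ hQ hx g hg => ?_
  haveI := Fact.mk hq
  rcases bound_cases ρ hp2 hqp hQ hx hn hxn hr with h | h | ⟨rfl, hk, hnc, -⟩
  · exact commute_of_commute_rep hρ (h g hg)
  · exact absurd h (by omega)
  · exfalso
    rcases hgood with hg' | hab
    · exact hg' hk
    · obtain ⟨S, hS⟩ := hQ.exists_le_sylow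
      apply hnc
      intro a ha b hb
      show ρ a * ρ b = ρ b * ρ a
      rw [← map_mul, ← map_mul]
      exact congrArg ρ (CfsgLib.PLocal.commute_of_mem_comm (hab S) (hS ha) (hS hb)).eq

/-- The part used for `p^(n-1)`-th powers: they centralize invariant abelian `q`-subgroups, and all
invariant ones for odd `q`. -/
theorem commute_of_degree (hρ : Function.Injective ρ) (hp2 : p ≠ 2) {q : ℕ} [hq : Fact q.Prime]
    (hqp : q ≠ p) {Q : Subgroup H} (hQ : IsPGroup q Q)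
    (hQc : q ≠ 2 ∨ ∀ g ∈ Q, ∀ h ∈ Q, Commute g h)
    {x : H} (hx : ∀ g ∈ Q, x * g * x⁻¹ ∈ Q) {n : ℕ} (hn : 1 ≤ n) (hxn : x ^ p ^ n = 1)
    {r : ℕ} (hr : (ρ x - 1) ^ r = 0) (hrn : r < p ^ n) {g : H} (hg : g ∈ Q) :
    Commute g (x ^ p ^ (n - 1)) := by
  rcases bound_cases ρ hp2 hqp hQ hx hn hxn hr with h | h | ⟨hq2, -, hnc, -⟩
  · exact commute_of_commute_rep hρ (h g hg)
  · exact absurd h (by omega)
  · exfalso
    rcases hQc with h | h
    · exact h hq2
    · refine hnc fun a ha b hb => ?_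
      show ρ a * ρ b = ρ b * ρ a
      rw [← map_mul, ← map_mul, (h a ha b hb).eq]

end Rep

section Powers

variable {K : Type u} [Group K] [Finite K] (R : FrattiniRep p K)

omit [Finite K] in
theorem FrattiniRep.map_one : R.φ 1 = 0 := (R.map_eq_zero 1).2 (one_mem _)

omit [Finite K] in
theorem FrattiniRep.map_inv (v : pCore p K) : R.φ v⁻¹ = -R.φ v := by
  rw [eq_neg_iff_add_eq_zero, ← R.map_mul, inv_mul_cancel, R.map_one]

omit [Finite K] in
theorem FrattiniRep.sub_one_apply (g : K) (v c : pCore p K) (hc : (c : K) = ⁅g, (v : K)⁆) :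
    (R.ρ g - 1) (R.φ v) = R.φ c := by
  have h : ((c * v : pCore p K) : K) = g * v * g⁻¹ := by
    rw [Subgroup.coe_mul, hc, commutatorElement_def]; group
  rw [LinearMap.sub_apply, Module.End.one_apply, R.conj g v _ h, R.map_mul, add_sub_cancel_right]

omit [Finite K] in
theorem FrattiniRep.geom_sum (h : K) (v : pCore p K) : ∀ N : ℕ, ∃ w : pCore p K,
    (w : K) = ((v : K) * h) ^ N * (h ^ N)⁻¹ ∧
      (∑ i ∈ Finset.range N, R.ρ h ^ i) (R.φ v) = R.φ w := by
  intro N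
  induction N with
  | zero => exact ⟨1, by simp, by simp [R.map_one]⟩
  | succ N ih =>
    obtain ⟨w, hw, hsum⟩ := ih
    haveI := CfsgLib.Solvable.pCore_normal p K
    have hc : h ^ N * (v : K) * (h ^ N)⁻¹ ∈ pCore p K := this.conj_mem _ v.2 _
    refine ⟨w * ⟨_, hc⟩, ?_, ?_⟩
    · rw [Subgroup.coe_mul, hw, pow_succ, pow_succ]
      simp [mul_assoc]
    · rw [Finset.sum_range_succ, LinearMap.add_apply, hsum, ← _root_.map_pow, R.conj (h ^ N) v ⟨_, hc⟩ rfl,
        R.map_mul]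

/-- If all `p`-elements have order dividing `p^n`, the degree is below `p^n`. -/
theorem FrattiniRep.degree_of_exp {n : ℕ} (hexp : CfsgLib.FGS68.ExpLE p n K) {h : K}
    (hh : IsPEl p h) : (R.ρ h - 1) ^ (p ^ n - 1) = 0 := by
  rw [CfsgLib.HallHigman.sub_one_pow_pred (K := Fbar p)]
  refine R.span _ fun v => ?_
  obtain ⟨w, hw, hsum⟩ := R.geom_sum h v (p ^ n)
  rw [hsum]
  haveI := CfsgLib.Solvable.pCore_normal p K
  have hsup : IsPGroup p ↥(pCore p K ⊔ Subgroup.zpowers h) := by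
    refine IsPGroup.to_sup_of_normal_left (CfsgLib.Solvable.pCore_isPGroup p K) ?_
    obtain ⟨k, hk⟩ := hh
    rintro ⟨_, i, rfl⟩
    refine ⟨k, Subtype.ext ?_⟩
    show (h ^ i) ^ p ^ k = 1
    rw [← zpow_natCast, ← zpow_mul, mul_comm, zpow_mul, zpow_natCast, hk, one_zpow]
  have h1 := hexp _ (IsPEl.of_isPGroup hsup
    (mul_mem (Subgroup.mem_sup_left v.2) (Subgroup.mem_sup_right (Subgroup.mem_zpowers h))))
  rw [h1, hexp h hh, inv_one, mul_one] at hw
  rw [show w = 1 from Subtype.ext hw, R.map_one]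

/-- The representation of `K / O_p(K)`. -/
theorem FrattiniRep.exists_quotient [(pCore p K).Normal] :
    ∃ ρ : K ⧸ pCore p K →* Module.End (Fbar p) (Fin R.dim → Fbar p), Function.Injective ρ ∧
      ∀ g : K, ρ (QuotientGroup.mk' _ g) = R.ρ g := by
  refine ⟨QuotientGroup.lift (pCore p K) R.ρ fun g hg => (R.ker g).2 hg, ?_, fun g => rfl⟩
  refine (injective_iff_map_eq_one _).2 fun a ha => ?_
  obtain ⟨g, rfl⟩ := QuotientGroup.mk'_surjective _ a
  exact (QuotientGroup.eq_one_iff g).2 ((R.ker g).1 ha)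

end Powers

end CfsgLib.PLengthHH
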