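import Cfsg.Agent.Lib.PLengthHH.Series
import Cfsg.Agent.Lib.Solvable.Core

/-! `p`-length and derived length bounded by the other `q`-lengths. -/

set_option autoImplicit false

open Cfsg

namespace CfsgLib.PLengthHH

universe u

variable {G : Type*} [Group G] [Finite G]

theorem inf_eq_coprime {p : ℕ} [hp : Fact p.Prime] {r : ℕ} (q : Fin r → ℕ) (hq : ∀ i, (q i).Prime)
    (hqp : ∀ i, q i ≠ p)
    (hcover : ∀ s : ℕ, s.Prime → s ∣ Nat.card G → s ≠ p → ∃ i, q i = s)
    (hcore : pCore p G = ⊥) :
    (Nat.card (⨅ i, pPrimePCore (q i) G : Subgroup G)).Coprime p := by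
  set M := ⨅ i, pPrimePCore (q i) G
  have hMn : M.Normal := Subgroup.normal_iInf_normal fun i =>
    (CfsgLib.Solvable.pCore_normal _ _).comap _
  set I := M ⊓ ⨅ i, pPrimeCore (q i) G
  haveI : (⨅ i, pPrimeCore (q i) G).Normal := Subgroup.normal_iInf_normal fun i =>
    CfsgLib.Solvable.pPrimeCore_normal _ G
  have hIn : I.Normal := inferInstance
  have hI : IsPGroup p I := by
    obtain ⟨m, hm⟩ : ∃ m, Nat.card I = p ^ m := by
      refine ⟨_, Nat.eq_prime_pow_of_unique_prime_dvd Nat.card_pos.ne' fun {s} hs hd => ?_⟩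
      by_contra hne
      obtain ⟨i, rfl⟩ := hcover s hs (hd.trans (Subgroup.card_subgroup_dvd_card I)) hne
      haveI := Fact.mk (hs : (q i).Prime)
      exact (Nat.Prime.coprime_iff_not_dvd hs).1 (CfsgLib.PLoc.pPrimeCore_coprime (q i) (G := G)).symm
        (hd.trans (Subgroup.card_dvd_of_le (inf_le_right.trans (iInf_le _ i))))
    exact IsPGroup.of_card hm
  refine card_coprime_of_pel fun x hx hxp => ?_
  have hxI : x ∈ I := by
    refine ⟨hx, Subgroup.mem_iInf.2 fun i => ?_⟩
    haveI := Fact.mk (hq i)
    have hxi : x ∈ pPrimePCore (q i) G := Subgroup.mem_iInf.1 hx i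
    obtain ⟨k, hk⟩ := hxp
    exact pel_mem_pPrimeCore_quotient hxi (Nat.Coprime.coprime_dvd_left (orderOf_dvd_of_pow_eq_one hk)
      (((Nat.coprime_primes hp.out (hq i)).2 (hqp i).symm).pow_left k))
  exact Subgroup.mem_bot.1 (hcore ▸ CfsgLib.Solvable.le_pCore hIn hI hxI)

theorem bound_aux (p : ℕ) [hp : Fact p.Prime] {r : ℕ} (q : Fin r → ℕ) (hq : ∀ i, (q i).Prime)
    (hqp : ∀ i, q i ≠ p) : ∀ (n : ℕ) (G : Type u) [Group G] [Finite G] (l : Fin r → ℕ), ∑ i, l i = n →
    (∀ s : ℕ, s.Prime → s ∣ Nat.card G → s ≠ p → ∃ i, q i = s) →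
    (∀ i, PLengthLE (q i) (l i) G) → PLengthLE p (∏ i, (1 + l i)) G := by
  intro n
  induction n using Nat.strong_induction_on with
  | _ n ih =>
  intro G _ _ l hn hcover hl
  set f := ∏ i, (1 + l i) with hf
  haveI : (pPrimePCore p G).Normal := (CfsgLib.Solvable.pCore_normal p _).comap _
  set π := QuotientGroup.mk' (pPrimePCore p G)
  have hπ : Function.Surjective π := QuotientGroup.mk'_surjective _
  have hπk : π.ker = pPrimePCore p G := QuotientGroup.ker_mk' _
  have hcK : ∀ s : ℕ, s.Prime → s ∣ Nat.card (G ⧸ pPrimePCore p G) → s ≠ p → ∃ i, q i = s :=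
    fun s hs hd => hcover s hs (hd.trans (Subgroup.card_quotient_dvd_card _))
  have hlK : ∀ i, PLengthLE (q i) (l i) (G ⧸ pPrimePCore p G) := fun i => by
    haveI := Fact.mk (hq i)
    exact pLengthLE_of_surjective hπ (hl i)
  haveI hNn : ∀ i, (pPrimePCore (q i) (G ⧸ pPrimePCore p G)).Normal := fun i =>
    (CfsgLib.Solvable.pCore_normal _ _).comap _
  have hpos : 0 < f := Finset.prod_pos fun i _ => by omega
  have hK : PLengthLE p (f - 1) (G ⧸ pPrimePCore p G) := by
    refine pLengthLE_of_family (fun i => pPrimePCore (q i) (G ⧸ pPrimePCore p G))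
      (inf_eq_coprime q hq hqp hcK (pCore_eq_bot_of_ker hπ hπk)) fun i => ?_
    haveI := Fact.mk (hq i)
    rcases Nat.eq_zero_or_pos (l i) with h0 | h0
    · have htop : pPrimePCore (q i) (G ⧸ pPrimePCore p G) = ⊤ := by
        have h1 := hlK i
        rw [h0] at h1
        rw [← CfsgLib.FGS68.upperPSeries_two (p := q i) (G := G ⧸ pPrimePCore p G), eq_top_iff]
        exact h1.symm.le.trans (upper_le_succ _)
      refine pLengthLE_mono (Nat.zero_le _) (pLengthLE_zero_iff.2 ?_)
      rw [← Subgroup.index_eq_card, htop, Subgroup.index_top]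
      exact Nat.coprime_one_left p
    · obtain ⟨m, hm⟩ := Nat.exists_eq_add_one.2 h0
      have hsurj := QuotientGroup.mk'_surjective (pPrimePCore (q i) (G ⧸ pPrimePCore p G))
      let l' := Function.update l i m
      have hl' : ∀ j, PLengthLE (q j) (l' j) ((G ⧸ pPrimePCore p G) ⧸ pPrimePCore (q i) (G ⧸ pPrimePCore p G)) := by
        intro j
        haveI := Fact.mk (hq j)
        rcases eq_or_ne j i with rfl | hji
        · rw [show l' j = m from Function.update_self ..]
          exact pLengthLE_pred hsurj (QuotientGroup.ker_mk' _) (hm ▸ hlK j)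
        · rw [show l' j = l j from Function.update_of_ne hji ..]
          exact pLengthLE_of_surjective hsurj (hlK j)
      have hle : ∀ j, l' j ≤ l j := fun j => by
        rcases eq_or_ne j i with rfl | hji
        · rw [show l' j = m from Function.update_self ..]; omega
        · rw [show l' j = l j from Function.update_of_ne hji ..]
      have hlt : l' i < l i := by rw [show l' i = m from Function.update_self ..]; omega
      have hsum : ∑ j, l' j < n := hn ▸ Finset.sum_lt_sum (fun j _ => hle j) ⟨i, Finset.mem_univ _, hlt⟩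
      have hprod : ∏ j, (1 + l' j) < f := Finset.prod_lt_prod (fun j _ => by omega)
        (fun j _ => by have := hle j; omega) ⟨i, Finset.mem_univ _, by omega⟩
      refine pLengthLE_mono (by omega) (ih _ hsum _ l' rfl (fun s hs hd => ?_) hl')
      exact hcK s hs (hd.trans (Subgroup.card_quotient_dvd_card _))
  exact pLengthLE_mono (by omega) (pLengthLE_succ' hπ hπk hK)

omit [Finite G] in
theorem map_derivedSeries_add_le {H : Type*} [Group H] (π : G →* H) (S : Subgroup G) (a : ℕ)
    (ha : (derivedSeries G a).map π ≤ S.map π) :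
    ∀ j, (derivedSeries G (a + j)).map π ≤ ((derivedSeries S j).map S.subtype).map π := by
  intro j
  induction j with
  | zero => simpa [derivedSeries_zero, ← MonoidHom.range_eq_map] using ha
  | succ j ih =>
    rw [← Nat.add_assoc, derivedSeries_succ, derivedSeries_succ, Subgroup.map_commutator,
      Subgroup.map_commutator, Subgroup.map_commutator]
    exact Subgroup.commutator_mono ih ih

theorem derived_aux {r : ℕ} (q : Fin r → ℕ) (hq : ∀ i, (q i).Prime) (d : Fin r → ℕ) :
    ∀ (n : ℕ) (G : Type u) [Group G] [Finite G] (l : Fin r → ℕ), ∑ i, l i = n →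
    (∀ s : ℕ, s.Prime → s ∣ Nat.card G → ∃ i, q i = s) →
    (∀ i, ∀ S : Sylow (q i) G, derivedSeries ↥(S : Subgroup G) (d i) = ⊥) →
    (∀ i, PLengthLE (q i) (l i) G) → derivedSeries G (∑ i, d i * l i) = ⊥ := by
  intro n
  induction n using Nat.strong_induction_on with
  | _ n ih =>
  intro G _ _ l hn hcover hd hl
  set σ := ∑ i, d i * l i with hσ
  have hkey : ∀ i, derivedSeries G σ ≤ pPrimeCore (q i) G := by
    intro i
    haveI := Fact.mk (hq i)
    haveI : (pPrimeCore (q i) G).Normal := CfsgLib.Solvable.pPrimeCore_normal _ G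
    rcases Nat.eq_zero_or_pos (l i) with h0 | h0
    · have h1 := hl i
      rw [h0] at h1
      rw [← CfsgLib.FGS68.upperPSeries_one]
      exact le_top.trans h1.symm.le
    · obtain ⟨m, hm⟩ := Nat.exists_eq_add_one.2 h0
      haveI : (pPrimePCore (q i) G).Normal := (CfsgLib.Solvable.pCore_normal _ _).comap _
      set ψ := QuotientGroup.mk' (pPrimePCore (q i) G)
      have hsurj : Function.Surjective ψ := QuotientGroup.mk'_surjective _
      let l' := Function.update l i m
      have hle : ∀ j, l' j ≤ l j := fun j => by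
        rcases eq_or_ne j i with rfl | hji
        · rw [show l' j = m from Function.update_self ..]; omega
        · rw [show l' j = l j from Function.update_of_ne hji ..]
      have hlt : l' i < l i := by rw [show l' i = m from Function.update_self ..]; omega
      have hsum : ∑ j, l' j < n := hn ▸ Finset.sum_lt_sum (fun j _ => hle j) ⟨i, Finset.mem_univ _, hlt⟩
      have hσ' : σ = ∑ j, d j * l' j + d i := by
        have h1 : ∀ j, d j * l j = d j * l' j + if j = i then d i else 0 := fun j => by
          rcases eq_or_ne j i with rfl | hji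
          · rw [show l' j = m from Function.update_self .., if_pos rfl, hm]; ring
          · rw [show l' j = l j from Function.update_of_ne hji .., if_neg hji, add_zero]
        rw [hσ, Finset.sum_congr rfl fun j _ => h1 j, Finset.sum_add_distrib,
          Finset.sum_ite_eq' Finset.univ i, if_pos (Finset.mem_univ _)]
      have h2 := ih _ hsum (G ⧸ pPrimePCore (q i) G) l' rfl
        (fun s hs hdv => hcover s hs (hdv.trans (Subgroup.card_quotient_dvd_card _)))
        (fun j T => by
          haveI := Fact.mk (hq j)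
          obtain ⟨S, rfl⟩ := Sylow.mapSurjective_surjective hsurj (q j) T
          have h := map_derivedSeries_eq (ψ.subgroupMap_surjective (S : Subgroup G)) (d j)
          rw [hd j S, Subgroup.map_bot] at h
          exact h.symm)
        (fun j => by
          haveI := Fact.mk (hq j)
          rcases eq_or_ne j i with rfl | hji
          · rw [show l' j = m from Function.update_self ..]
            exact pLengthLE_pred hsurj (QuotientGroup.ker_mk' _) (hm ▸ hl j)
          · rw [show l' j = l j from Function.update_of_ne hji ..]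
            exact pLengthLE_of_surjective hsurj (hl j))
      rw [← map_derivedSeries_eq hsurj, Subgroup.map_eq_bot_iff, QuotientGroup.ker_mk'] at h2
      set π := QuotientGroup.mk' (pPrimeCore (q i) G)
      obtain ⟨S⟩ : Nonempty (Sylow (q i) G) := inferInstance
      have h3 : (derivedSeries G (∑ j, d j * l' j)).map π ≤ (S : Subgroup G).map π := by
        refine (Subgroup.map_mono h2).trans ?_
        rw [pPrimePCore, Subgroup.map_comap_eq_self_of_surjective (QuotientGroup.mk'_surjective _)]
        have := CfsgLib.Solvable.pCore_le_sylow (S.mapSurjective (QuotientGroup.mk'_surjective (pPrimeCore (q i) G)))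
        rwa [Sylow.coe_mapSurjective] at this
      have h4 := map_derivedSeries_add_le π (S : Subgroup G) _ h3 (d i)
      rw [hd i S, Subgroup.map_bot, Subgroup.map_bot, ← hσ', le_bot_iff, Subgroup.map_eq_bot_iff,
        QuotientGroup.ker_mk'] at h4
      exact h4
  refine Subgroup.eq_bot_of_card_eq _ (Nat.eq_one_iff_not_exists_prime_dvd.2 fun s hs hds => ?_)
  obtain ⟨i, rfl⟩ := hcover s hs (hds.trans (Subgroup.card_subgroup_dvd_card _))
  haveI := Fact.mk (hs : (q i).Prime)
  exact (Nat.Prime.coprime_iff_not_dvd hs).1 (CfsgLib.PLoc.pPrimeCore_coprime (q i) (G := G)).symm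
    (hds.trans (Subgroup.card_dvd_of_le (hkey i)))

end CfsgLib.PLengthHH
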