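import Cfsg.Agent.Lib.PLengthHH.Alperin
import Cfsg.Agent.Lib.Transfer.Critical
import Cfsg.Agent.Lib.StdForm.ConstrainedAut
import Cfsg.Agent.Lib.PLocal.Thompson

/-!
`p`-elements which are `p^n`-th powers of elements centralizing invariant abelian subgroups commute
in their action on a `q`-group.
-/

set_option autoImplicit false

open Cfsg

namespace CfsgLib.PLengthHH

open scoped commutatorElement

universe u

variable {p : ℕ} [hp : Fact p.Prime]

theorem isEA_commute {G : Type*} [Group G] {A : Subgroup G} (hA : IsElementaryAbelian p A) {a b : G}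
    (ha : a ∈ A) (hb : b ∈ A) : Commute a b :=
  congrArg Subtype.val (hA.1.is_comm.comm (⟨a, ha⟩ : A) ⟨b, hb⟩)

omit hp in
theorem mulAut_pow_apply_fixed {S : Type*} [Group S] {g : MulAut S} {s : S} (h : g s = s) :
    ∀ i : ℕ, (g ^ i) s = s := by
  intro i
  induction i with
  | zero => simp
  | succ i ih => rw [pow_succ, MulAut.mul_apply, h, ih]

/-- An element moving a point moves a point fixed by a complementary hyperplane. -/
theorem exists_hyperplane {S : Type*} [CommGroup S] [Finite S] (hS : (Nat.card S).Coprime p)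
    {A : Subgroup (MulAut S)} (hA : IsElementaryAbelian p A) {c : MulAut S} (hc : c ∈ A) (hc1 : c ≠ 1) :
    ∃ B : Subgroup (MulAut S), B ≤ A ∧ c ∉ B ∧ B ⊔ Subgroup.zpowers c = A ∧
      ∃ m : S, (∀ b ∈ B, b m = m) ∧ c m ≠ m := by
  haveI : Finite (MulAut S) := Finite.of_injective (fun e => (e : S → S)) fun a b h => MulEquiv.ext (congrFun h)
  obtain ⟨B, ⟨hBA, m, hBm, hcm⟩, hmax⟩ := (Set.toFinite
    {B : Subgroup (MulAut S) | B ≤ A ∧ ∃ m : S, (∀ b ∈ B, b m = m) ∧ c m ≠ m}).exists_maximal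
    ⟨⊥, bot_le, by
      by_contra h
      push Not at h
      exact hc1 (MulEquiv.ext fun s => h s (fun b hb => by rw [Subgroup.mem_bot.1 hb]; rfl))⟩
  have hcB : c ∉ B := fun h => hcm (hBm c h)
  refine ⟨B, hBA, hcB, le_antisymm (sup_le hBA (Subgroup.zpowers_le.2 hc)) ?_, m, hBm, hcm⟩
  by_contra hnle
  obtain ⟨a, ha, haBc⟩ := SetLike.not_le_iff_exists.1 hnle
  -- what is fixed by `B` and `a c^i` is fixed by `c`
  have hfix : ∀ i : ℕ, ∀ s : S, (∀ b ∈ B, b s = s) → (a * c ^ i) s = s → c s = s := by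
    intro i s hs hg
    by_contra hcs
    have hle := hmax (y := B ⊔ Subgroup.zpowers (a * c ^ i))
      ⟨sup_le hBA (Subgroup.zpowers_le.2 (mul_mem ha (pow_mem hc i))), s, fun b hb => by
        have hst : B ⊔ Subgroup.zpowers (a * c ^ i) ≤ MulAction.stabilizer (MulAut S) s :=
          sup_le (fun x hx => hs x hx) (Subgroup.zpowers_le.2 hg)
        exact hst hb, hcs⟩ le_sup_left
    refine haBc ?_
    have h1 : a * c ^ i ∈ B ⊔ Subgroup.zpowers c :=
      Subgroup.mem_sup_left (hle (Subgroup.mem_sup_right (Subgroup.mem_zpowers _)))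
    simpa using mul_mem h1 (inv_mem (pow_mem (Subgroup.mem_sup_right (Subgroup.mem_zpowers c)) i))
  have hcomm : ∀ x ∈ A, ∀ y ∈ A, Commute x y := fun x hx y hy => isEA_commute hA hx hy
  -- orbit products are fixed
  have horb : ∀ g ∈ A, ∀ b ∈ A, (b = g ∨ b ∈ B) →
      b (∏ j ∈ Finset.range p, (g ^ j) m) = ∏ j ∈ Finset.range p, (g ^ j) m := by
    intro g hg b hb hor
    rw [map_prod]
    rcases hor with rfl | hbB
    · have hp1 : ∀ f : ℕ → S, f p = f 0 →
          ∏ j ∈ Finset.range p, f (j + 1) = ∏ j ∈ Finset.range p, f j := fun f hf => by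
        have h1 := Finset.prod_range_succ' f p
        rw [Finset.prod_range_succ, hf] at h1
        exact (mul_right_cancel h1).symm
      refine Eq.trans (Finset.prod_congr rfl fun j _ => ?_) (hp1 (fun j => (b ^ j) m) ?_)
      · show b ((b ^ j) m) = (b ^ (j + 1)) m
        rw [pow_succ', MulAut.mul_apply]
      · show (b ^ p) m = (b ^ 0) m
        rw [hA.2 b hb, pow_zero]
    · refine Finset.prod_congr rfl fun j _ => ?_
      rw [← MulAut.mul_apply, (hcomm b hb _ (pow_mem hg j)).eq, MulAut.mul_apply, hBm b hbB]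
  let F : Subgroup S := (c.toMonoidHom).eqLocus (MonoidHom.id S)
  have hu : ∀ i ∈ Finset.range p, (∏ j ∈ Finset.range p, ((a * c ^ i) ^ j) m) ∈ F := fun i _ =>
    hfix i _ (fun b hb => horb _ (mul_mem ha (pow_mem hc i)) b (hBA hb) (Or.inr hb))
      (horb _ (mul_mem ha (pow_mem hc i)) _ (mul_mem ha (pow_mem hc i)) (Or.inl rfl))
  have htot : (∏ j ∈ Finset.range p, ∏ i ∈ Finset.range p, ((a * c ^ i) ^ j) m) ∈ F := by
    rw [Finset.prod_comm]
    exact prod_mem hu
  have hj : ∀ j ∈ (Finset.range p).erase 0, (∏ i ∈ Finset.range p, ((a * c ^ i) ^ j) m) ∈ F := by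
    intro j hj
    have hjp : j < p := Finset.mem_range.1 (Finset.mem_of_mem_erase hj)
    have hj0 : j ≠ 0 := Finset.ne_of_mem_erase hj
    have hv := horb (c ^ j) (pow_mem hc j) (c ^ j) (pow_mem hc j) (Or.inl rfl)
    obtain ⟨t, ht⟩ : ∃ t : ℕ, (c ^ j) ^ t = c := by
      refine exists_pow_eq_self_of_coprime (Nat.Coprime.coprime_dvd_right ?_
        ((hp.out.coprime_iff_not_dvd.2 fun h => hj0 (Nat.eq_zero_of_dvd_of_lt h hjp)).symm))
      exact orderOf_dvd_of_pow_eq_one (hA.2 c hc)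
    have hcv : c (∏ i ∈ Finset.range p, ((c ^ j) ^ i) m) = ∏ i ∈ Finset.range p, ((c ^ j) ^ i) m := by
      have h := mulAut_pow_apply_fixed hv t
      rwa [ht] at h
    have he : ∏ i ∈ Finset.range p, ((a * c ^ i) ^ j) m = (a ^ j) (∏ i ∈ Finset.range p, ((c ^ j) ^ i) m) := by
      rw [map_prod]
      refine Finset.prod_congr rfl fun i _ => ?_
      rw [(hcomm a ha _ (pow_mem hc i)).mul_pow, MulAut.mul_apply, ← pow_mul, ← pow_mul, mul_comm i j]
    rw [he]
    show c ((a ^ j) _) = (a ^ j) _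
    rw [← MulAut.mul_apply, (hcomm c hc _ (pow_mem ha j)).eq, MulAut.mul_apply, hcv]
  have hmp : m ^ p ∈ F := by
    have h0 : 0 ∈ Finset.range p := Finset.mem_range.2 hp.out.pos
    rw [← Finset.mul_prod_erase _ _ h0] at htot
    have h1 := mul_mem htot (inv_mem (prod_mem hj))
    rw [mul_inv_cancel_right] at h1
    simpa using h1
  apply hcm
  apply (powCoprime hS).injective
  show (c m) ^ p = m ^ p
  rw [← map_pow]
  exact hmp

theorem zpowers_eq_of_prime_order {G : Type*} [Group G] {c z : G} (hc : orderOf c = p)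
    (hz : z ∈ Subgroup.zpowers c) (hz1 : z ≠ 1) : Subgroup.zpowers z = Subgroup.zpowers c := by
  haveI : Finite (Subgroup.zpowers c) := Nat.finite_of_card_ne_zero (by rw [Nat.card_zpowers, hc]; exact hp.out.ne_zero)
  refine Subgroup.eq_of_le_of_card_ge (Subgroup.zpowers_le.2 hz) ?_
  rw [Nat.card_zpowers, Nat.card_zpowers, hc]
  obtain ⟨k, rfl⟩ := Subgroup.mem_zpowers_iff.1 hz
  exact ((orderOf_eq_prime (p := p) (by
    rw [← zpow_natCast, ← zpow_mul, mul_comm, zpow_mul, zpow_natCast, ← hc, pow_orderOf_eq_one, one_zpow]) hz1)).ge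

/-- `y = x ^ p ^ n` centralizes the `x`-invariant abelian subgroups of `L`, for some `x ∈ P`. -/
def IsSmall (p : ℕ) {T : Type*} [Group T] (P L : Subgroup T) (y : T) : Prop :=
  ∃ x ∈ P, ∃ n : ℕ, x ^ p ^ (n + 1) = 1 ∧ x ^ p ^ n = y ∧
    ∀ D : Subgroup T, D ≤ L → (∀ a ∈ D, ∀ b ∈ D, Commute a b) → (∀ d ∈ D, x * d * x⁻¹ ∈ D) →
      y ∈ Subgroup.centralizer (D : Set T)

/-- A `p`-element centralizing a critical subgroup centralizes the `q`-group. -/
theorem centralize_of_critical {T : Type*} [Group T] [Finite T] {L C : Subgroup T} [C.Normal]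
    (hCL : C ≤ L) (hself : L ⊓ Subgroup.centralizer (C : Set T) ≤ C) {g : T}
    (hgL : g ∈ Subgroup.normalizer (L : Set T)) (hcop : (orderOf g).Coprime (Nat.card L))
    (hgC : g ∈ Subgroup.centralizer (C : Set T)) : g ∈ Subgroup.centralizer (L : Set T) := by
  have hsub : ⁅L, Subgroup.zpowers g⁆ ≤ C := by
    rw [Subgroup.commutator_le]
    intro l hl z hz
    have hzC : z ∈ Subgroup.centralizer (C : Set T) := Subgroup.zpowers_le.2 hgC hz
    have hzL : z ∈ Subgroup.normalizer (L : Set T) := Subgroup.zpowers_le.2 hgL hz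
    refine hself ⟨?_, ?_⟩
    · rw [commutatorElement_def, mul_assoc l z, mul_assoc l (z * l⁻¹)]
      exact mul_mem hl ((Subgroup.mem_normalizer_iff.1 hzL _).1 (inv_mem hl))
    · intro k hk
      have h1 : Commute k z⁻¹ :=
        Commute.inv_right (Subgroup.mem_centralizer_iff.1 hzC k hk)
      have h2 : (l⁻¹ * k * l) * z = z * (l⁻¹ * k * l) := Subgroup.mem_centralizer_iff.1 hzC _ (by
        simpa using ‹C.Normal›.conj_mem k hk l⁻¹)
      rw [commutatorElement_def]
      calc k * (l * z * l⁻¹ * z⁻¹) = l * ((l⁻¹ * k * l) * z) * l⁻¹ * z⁻¹ := by group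
        _ = l * z * l⁻¹ * (k * z⁻¹) := by rw [h2]; group
        _ = l * z * l⁻¹ * z⁻¹ * k := by rw [h1.eq]; group
  have hzero : ⁅⁅L, Subgroup.zpowers g⁆, Subgroup.zpowers g⁆ = ⊥ := by
    rw [Subgroup.commutator_eq_bot_iff_le_centralizer]
    exact hsub.trans (Subgroup.le_centralizer_iff.1 (Subgroup.zpowers_le.2 hgC))
  rw [CfsgLib.Solvable.commutator_commutator_eq (Subgroup.zpowers_le.2 hgL) (by rwa [Nat.card_zpowers])
    (Or.inl inferInstance), Subgroup.commutator_eq_bot_iff_le_centralizer] at hzero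
  exact Subgroup.le_centralizer_iff.1 hzero (Subgroup.mem_zpowers g)

/-- Two small elements commute in their action on `L`. -/
theorem commute_small {T : Type u} [Group T] [Finite T] {L : Subgroup T} [hLn : L.Normal]
    {q : ℕ} [hq : Fact q.Prime] (hqp : q ≠ p) (hL : IsPGroup q L) (hp2 : p ≠ 2) {P : Subgroup T}
    (hP : IsPGroup p P) {y y' : T} (hy : IsSmall p P L y) (hy' : IsSmall p P L y') :
    ⁅y, y'⁆ ∈ Subgroup.centralizer (L : Set T) := by
  classical
  obtain ⟨H₀, hH₀, -, hcom, hself₀⟩ := CfsgLib.Transfer.exists_critical hL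
  set C := H₀.map L.subtype with hC
  haveI hCn : C.Normal := inferInstance
  have hCL : C ≤ L := Subgroup.map_subtype_le _
  have hCq : IsPGroup q C := hL.to_le hCL
  set Z := C ⊓ Subgroup.centralizer (C : Set T) with hZ
  have hCC : ∀ a ∈ C, ∀ b ∈ C, ⁅a, b⁆ ∈ Z := by
    rintro _ ⟨a, ha, rfl⟩ _ ⟨b, hb, rfl⟩
    have h := hcom (Subgroup.commutator_mem_commutator ha (Subgroup.mem_top b))
    refine ⟨⟨_, h.1, map_commutatorElement L.subtype a b⟩, ?_⟩
    rintro _ ⟨k, hk, rfl⟩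
    exact congrArg Subtype.val (h.2 k hk)
  have hself : L ⊓ Subgroup.centralizer (C : Set T) ≤ C := by
    rintro l ⟨hl, hlc⟩
    exact ⟨⟨l, hl⟩, hself₀ fun k hk => Subtype.ext (hlc (k : T) ⟨k, hk, rfl⟩), rfl⟩
  have hcopP : ∀ g ∈ P, (orderOf g).Coprime (Nat.card L) := fun g hg => by
    obtain ⟨i, hi⟩ := IsPGroup.iff_card.1 hL
    obtain ⟨j, hj⟩ := hP ⟨g, hg⟩
    rw [hi]
    exact Nat.Coprime.coprime_dvd_left (orderOf_dvd_of_pow_eq_one (congrArg Subtype.val hj))
      (Nat.Coprime.pow j i ((Nat.coprime_primes hp.out hq.out).2 hqp.symm))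
  -- the action on `S = C / Z(C)`
  let θ := CfsgLib.StdForm.conjQuot C (Subgroup.center ↥C)
  letI instS : CommGroup (↥C ⧸ Subgroup.center ↥C) :=
    { (inferInstance : Group (↥C ⧸ Subgroup.center ↥C)) with
      mul_comm := fun a b => by
        induction a using QuotientGroup.induction_on with | _ u => ?_
        induction b using QuotientGroup.induction_on with | _ v => ?_
        rw [← QuotientGroup.mk_mul, ← QuotientGroup.mk_mul, QuotientGroup.eq]
        have he : (u * v)⁻¹ * (v * u) = ⁅v⁻¹, u⁻¹⁆ := by simp [commutatorElement_def, mul_assoc]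
        rw [he, Subgroup.mem_center_iff]
        intro k
        exact Subtype.ext ((hCC _ (v⁻¹).2 _ (u⁻¹).2).2 k k.2) }
  have hScop : (Nat.card (↥C ⧸ Subgroup.center ↥C)).Coprime p := by
    obtain ⟨i, hi⟩ := IsPGroup.iff_card.1 hCq
    exact Nat.Coprime.coprime_dvd_left (hi ▸ Subgroup.card_quotient_dvd_card _)
      (Nat.Coprime.pow_left i ((Nat.coprime_primes hq.out hp.out).2 hqp))
  have hθ : ∀ (g : T) (v : ↥C) (w : ↥C), (w : T) = g * v * g⁻¹ →
      θ g (QuotientGroup.mk v) = QuotientGroup.mk w := by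
    intro g v w hw
    have : w = MulAut.conjNormal g v := Subtype.ext (by rw [hw, MulAut.conjNormal_apply])
    rw [this]
    rfl
  have hmkZ : ∀ u v : ↥C, (QuotientGroup.mk u : ↥C ⧸ Subgroup.center ↥C) = QuotientGroup.mk v →
      (u : T)⁻¹ * v ∈ Z := by
    intro u v h
    have h1 := QuotientGroup.eq.1 h
    exact ⟨C.mul_mem (C.inv_mem u.2) v.2,
      fun k hk => congrArg Subtype.val (Subgroup.mem_center_iff.1 h1 ⟨k, hk⟩)⟩
  set P₀ := P ⊓ Subgroup.centralizer (Z : Set T) with hP₀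
  haveI hP₀n : (P₀.subgroupOf P).Normal := ⟨fun n hn g => by
    rw [Subgroup.mem_subgroupOf] at hn ⊢
    exact ⟨P.mul_mem (P.mul_mem g.2 hn.1) (P.inv_mem g.2),
      (inferInstance : (Subgroup.centralizer (Z : Set T)).Normal).conj_mem _ hn.2 g⟩⟩
  -- trivial on `S` and on `Z` means trivial on `L`
  have hkerθ : ∀ g ∈ P₀, θ g = 1 → g ∈ Subgroup.centralizer (L : Set T) := by
    intro g hg hg1
    have hgL : g ∈ Subgroup.normalizer (L : Set T) := Subgroup.le_normalizer_of_normal (Subgroup.mem_top g)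
    refine centralize_of_critical hCL hself hgL (hcopP g hg.1) ?_
    have hzg : Subgroup.zpowers g ≤ θ.ker := Subgroup.zpowers_le.2 hg1
    have hzero : ⁅⁅C, Subgroup.zpowers g⁆, Subgroup.zpowers g⁆ = ⊥ := by
      rw [Subgroup.commutator_eq_bot_iff_le_centralizer]
      refine le_trans ?_ (Subgroup.le_centralizer_iff.1 (Subgroup.zpowers_le.2 hg.2))
      rw [Subgroup.commutator_le]
      intro k hk z hz
      have h2 := CfsgLib.StdForm.mem_ker_conjQuot.1 (hzg hz) ⟨k⁻¹, C.inv_mem hk⟩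
      have h3 : z * k⁻¹ * z⁻¹ * k ∈ Z := by
        have h4 : ((MulAut.conjNormal z (⟨k⁻¹, C.inv_mem hk⟩ : C) * (⟨k⁻¹, C.inv_mem hk⟩ : C)⁻¹ : C) : T) =
            z * k⁻¹ * z⁻¹ * k := by simp [MulAut.conjNormal_apply]
        rw [← h4]
        exact ⟨SetLike.coe_mem _, fun j hj => congrArg Subtype.val (Subgroup.mem_center_iff.1 h2 ⟨j, hj⟩)⟩
      have h5 : ⁅k, z⁆ = k * (z * k⁻¹ * z⁻¹ * k) * k⁻¹ := by
        rw [commutatorElement_def]; group
      rw [h5]
      haveI : Z.Normal := inferInstance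
      exact this.conj_mem _ h3 k
    rw [CfsgLib.Solvable.commutator_commutator_eq Subgroup.le_normalizer_of_normal
      (by rw [Nat.card_zpowers]; exact (hcopP g hg.1).coprime_dvd_right (Subgroup.card_dvd_of_le hCL))
      (Or.inl inferInstance), Subgroup.commutator_eq_bot_iff_le_centralizer] at hzero
    exact Subgroup.le_centralizer_iff.1 hzero (Subgroup.mem_zpowers g)
  -- small elements lie in `P₀`
  have hsP₀ : ∀ y, IsSmall p P L y → y ∈ P₀ ∧ y ^ p = 1 := by
    rintro y ⟨x, hx, n, hxn, rfl, hD⟩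
    refine ⟨⟨pow_mem hx _, hD Z (inf_le_left.trans hCL) (fun a ha b hb => ?_) fun d hd => ?_⟩, ?_⟩
    · exact (ha.2 b hb.1).symm
    · exact (inferInstance : Z.Normal).conj_mem d hd x
    · rw [← pow_mul, ← pow_succ, hxn]
  set Pb := P.map θ with hPb
  let f : ↥P →* ↥Pb := θ.subgroupMap P
  have hfs : Function.Surjective f := θ.subgroupMap_surjective P
  haveI hNn : ((P₀.subgroupOf P).map f).Normal := hP₀n.map f hfs
  obtain ⟨A, ⟨hAn, hAe, hAN⟩, hAmax⟩ := (Set.toFinite
    {A : Subgroup ↥Pb | A.Normal ∧ IsElementaryAbelian p A ∧ A ≤ (P₀.subgroupOf P).map f}).exists_maximal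
    ⟨⊥, inferInstance, ⟨inferInstance, fun x hx => by rw [Subgroup.mem_bot.1 hx, one_pow]⟩, bot_le⟩
  haveI := hAn
  have key : ∀ y, IsSmall p P L y → ∀ hyP : y ∈ P, f ⟨y, hyP⟩ ∈ A := by
    intro y hy hyP
    obtain ⟨hy0, hyp⟩ := hsP₀ y hy
    refine mem_of_pow_eq_one_of_maximal_normal_in (hP.map θ) hp2 hAe hAN
      (fun B h1 h2 h3 h4 => le_antisymm (hAmax ⟨h1, h2, h4⟩ h3) h3) ?_ ⟨_, Subgroup.mem_subgroupOf.2 hy0, rfl⟩ ?_
    swap
    · rw [← map_pow, show (⟨y, hyP⟩ : ↥P) ^ p = 1 from Subtype.ext hyp, map_one]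
    obtain ⟨x, hxP, n, hxn, hxy, hD⟩ := hy
    rw [Subgroup.mem_centralizer_iff]
    intro a ha
    by_contra hne
    set A' := A.map Pb.subtype with hA'
    have hA'e : IsElementaryAbelian p A' := CfsgLib.PLocal.isEA_map hAe _
    have hAconj : ∀ g : ↥P, ∀ b ∈ A', θ (g : T) * b * (θ (g : T))⁻¹ ∈ A' := by
      rintro g _ ⟨b, hb, rfl⟩
      exact ⟨f g * b * (f g)⁻¹, hAn.conj_mem b hb (f g), rfl⟩
    set c := ⁅θ y, (a : MulAut (↥C ⧸ Subgroup.center ↥C))⁆ with hc
    have haA : (a : MulAut (↥C ⧸ Subgroup.center ↥C)) ∈ A' := ⟨a, ha, rfl⟩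
    have hcA : c ∈ A' := by
      rw [hc, commutatorElement_def]
      exact mul_mem (hAconj ⟨y, hyP⟩ _ haA) (inv_mem haA)
    have hc1 : c ≠ 1 := fun h => hne (Subtype.ext (commutatorElement_eq_one_iff_mul_comm.1 h).symm)
    obtain ⟨B, hBA, hcB, hBc, m, hBm, hcm⟩ := exists_hyperplane hScop hA'e hcA hc1
    -- `y` moves `B`
    have hyB : ¬ ∀ b ∈ B, θ y * b * (θ y)⁻¹ ∈ B := by
      intro hBy
      apply hcB
      have hdec : ∀ g ∈ A', ∃ b ∈ B, ∃ i : ℕ, g = b * c ^ i := by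
        intro g hg
        rw [← hBc] at hg
        have hnor : Subgroup.zpowers c ≤ Subgroup.normalizer (B : Set _) := by
          rw [Subgroup.zpowers_le]
          refine Subgroup.mem_normalizer_fintype fun b hb => ?_
          rw [(isEA_commute hA'e hcA (hBA hb)).eq, mul_inv_cancel_right]
          exact hb
        rw [← SetLike.mem_coe, Subgroup.coe_mul_of_right_le_normalizer_left _ _ hnor] at hg
        obtain ⟨b, hb, z, hz, rfl⟩ := hg
        obtain ⟨i, rfl⟩ := (isOfFinOrder_iff_pow_eq_one.2 ⟨p, hp.out.pos, hA'e.2 c hcA⟩).mem_powers_iff_mem_zpowers.2 hz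
        exact ⟨b, hb, i, rfl⟩
      -- `y c y⁻¹ ∈ B c`
      obtain ⟨b₁, hb₁, j, hj⟩ := hdec _ (hAconj ⟨y, hyP⟩ c hcA)
      have hjk : ∀ k : ℕ, ∃ b ∈ B, (θ y) ^ k * c * ((θ y) ^ k)⁻¹ = b * c ^ (j ^ k) := by
        intro k
        induction k with
        | zero => exact ⟨1, one_mem _, by simp⟩
        | succ k ih =>
          obtain ⟨b, hb, hk⟩ := ih
          refine ⟨(θ y * b * (θ y)⁻¹) * b₁ ^ (j ^ k), mul_mem (hBy b hb) (pow_mem hb₁ _), ?_⟩
          calc (θ y) ^ (k + 1) * c * ((θ y) ^ (k + 1))⁻¹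
              = θ y * ((θ y) ^ k * c * ((θ y) ^ k)⁻¹) * (θ y)⁻¹ := by rw [pow_succ']; group
            _ = (θ y * b * (θ y)⁻¹) * (θ y * c * (θ y)⁻¹) ^ (j ^ k) := by
                rw [hk, conj_pow]; group
            _ = _ := by
                rw [hj, (isEA_commute hA'e (hBA hb₁) (pow_mem hcA j)).mul_pow, ← pow_mul, ← pow_succ']
                simp only [mul_assoc]
      obtain ⟨b, hb, hk⟩ := hjk p
      rw [← map_pow, hyp, map_one, one_mul, inv_one, mul_one] at hk
      have hcyc : ∀ t : ℕ, c ^ t ∈ B → p ∣ t := fun t ht => by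
        by_contra hpt
        obtain ⟨s, hs⟩ := exists_pow_eq_self_of_coprime (x := c) (n := t)
          (Nat.Coprime.coprime_dvd_right (orderOf_dvd_of_pow_eq_one (hA'e.2 c hcA))
            ((hp.out.coprime_iff_not_dvd.2 hpt).symm))
        exact hcB (hs ▸ pow_mem ht s)
      have hjp : j % p = 1 := by
        have h1 : c ^ (j ^ p + (p - 1)) ∈ B := by
          have h2 : c ^ (j ^ p + (p - 1)) = b⁻¹ := by
            rw [pow_add]
            have h3 : c ^ (j ^ p) = b⁻¹ * c := by rw [eq_inv_mul_iff_mul_eq]; exact hk.symm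
            rw [h3, mul_assoc, ← pow_succ', Nat.sub_add_cancel hp.out.one_le, hA'e.2 c hcA, mul_one]
          rw [h2]; exact inv_mem hb
        have h4 : ((j ^ p + (p - 1) : ℕ) : ZMod p) = 0 := (CharP.cast_eq_zero_iff (ZMod p) p _).2 (hcyc _ h1)
        rw [Nat.cast_add, Nat.cast_pow, ZMod.pow_card, Nat.cast_sub hp.out.one_le, ZMod.natCast_self,
          Nat.cast_one, zero_sub, add_neg_eq_zero] at h4
        rw [← ZMod.val_natCast, h4, ZMod.val_one]
      have hyc : θ y * c * (θ y)⁻¹ * c⁻¹ ∈ B := by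
        rw [hj, ← Nat.mod_add_div j p, hjp, pow_add, pow_one, pow_mul, hA'e.2 c hcA, one_pow, mul_one,
          mul_inv_cancel_right]
        exact hb₁
      obtain ⟨b₂, hb₂, i, hi⟩ := hdec _ haA
      have h5 : c = (θ y * b₂ * (θ y)⁻¹) * ((θ y * c * (θ y)⁻¹) ^ i * (c ^ i)⁻¹) * b₂⁻¹ := by
        conv_lhs => rw [hc, commutatorElement_def, hi]
        rw [conj_pow]; group
      rw [h5]
      refine mul_mem (mul_mem (hBy b₂ hb₂) ?_) (inv_mem hb₂)
      rw [← inv_pow, ← ((isEA_commute hA'e (hAconj ⟨y, hyP⟩ c hcA) (inv_mem hcA))).mul_pow]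
      exact pow_mem hyc i
    -- the conjugates of a point of `[C_S(B), c]`
    set m₁ := m⁻¹ * c m with hm₁
    have hm₁B : ∀ b ∈ B, b m₁ = m₁ := fun b hb => by
      rw [hm₁, map_mul, map_inv, hBm b hb, ← MulAut.mul_apply, (isEA_commute hA'e (hBA hb) hcA).eq,
        MulAut.mul_apply, hBm b hb]
    have hm₁c : c m₁ ≠ m₁ := by
      intro h
      apply hcm
      have h1 : ∀ k : ℕ, (c ^ k) m = m * m₁ ^ k := by
        intro k
        induction k with
        | zero => simp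
        | succ k ih =>
          rw [pow_succ', MulAut.mul_apply, ih, map_mul, map_pow, h, pow_succ', ← mul_assoc]
          rw [show c m = m * m₁ by rw [hm₁, mul_inv_cancel_left]]
      have h2 := h1 p
      rw [hA'e.2 c hcA, MulAut.one_apply, eq_comm, mul_eq_left] at h2
      have h3 : m₁ = 1 := (powCoprime hScop).injective (by rw [powCoprime_apply, powCoprime_apply, h2, one_pow])
      rw [← inv_mul_eq_one.1 h3]
    obtain ⟨k₀, hk₀⟩ := QuotientGroup.mk_surjective m
    obtain ⟨l₀, hl₀⟩ := QuotientGroup.mk_surjective m₁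
    have hθconj : ∀ (g : T) (v : ↥C), θ g (QuotientGroup.mk v) = QuotientGroup.mk (MulAut.conjNormal g v) :=
      fun g v => rfl
    have hbilin : ∀ u v w : ↥C, (QuotientGroup.mk v : ↥C ⧸ Subgroup.center ↥C) = QuotientGroup.mk w →
        ⁅(u : T), (v : T)⁆ = ⁅(u : T), (w : T)⁆ := by
      intro u v w h
      have h1 := hmkZ v w h
      have e : (w : T) = v * ((v : T)⁻¹ * w) := by group
      have hc1 : ⁅(u : T), (v : T)⁻¹ * w⁆ = 1 :=
        commutatorElement_eq_one_iff_mul_comm.2 (h1.2 u u.2)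
      have e2 : ⁅(u : T), (v : T) * ((v : T)⁻¹ * w)⁆ = ⁅(u : T), (v : T)⁆ * ((v : T) * ⁅(u : T), (v : T)⁻¹ * w⁆ * (v : T)⁻¹) := by
        simp only [commutatorElement_def]; group
      conv_rhs => rw [e, e2, hc1, mul_one, mul_inv_cancel, mul_one]
    -- pieces for different hyperplanes commute
    have hpiece : ∀ i₁ i₂ : ℕ, ¬ (∀ b ∈ B, θ (x ^ i₁) * b * (θ (x ^ i₁))⁻¹ ∈
          B.map (MulAut.conj (θ (x ^ i₂))).toMonoidHom) →
        Commute (x ^ i₁ * (l₀ : T) * (x ^ i₁)⁻¹) (x ^ i₂ * (l₀ : T) * (x ^ i₂)⁻¹) := by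
      intro i₁ i₂ hne'
      push Not at hne'
      obtain ⟨b, hb, hbB⟩ := hne'
      set β := θ (x ^ i₁) * b * (θ (x ^ i₁))⁻¹ with hβ
      set γ := θ (x ^ i₂) * c * (θ (x ^ i₂))⁻¹ with hγ
      have hβA : β ∈ A' := hAconj ⟨x ^ i₁, pow_mem hxP _⟩ b (hBA hb)
      -- write `γ` through `β`
      have hA'map : A'.map (MulAut.conj (θ (x ^ i₂))).toMonoidHom = A' := by
        refine le_antisymm ?_ fun g hg => ?_
        · rintro _ ⟨g, hg, rfl⟩
          exact hAconj ⟨x ^ i₂, pow_mem hxP _⟩ g hg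
        · refine ⟨(θ (x ^ i₂))⁻¹ * g * θ (x ^ i₂), ?_, by
            simp only [MulEquiv.coe_toMonoidHom, MulAut.conj_apply]; group⟩
          have h : θ ((x ^ i₂)⁻¹) * g * (θ ((x ^ i₂)⁻¹))⁻¹ ∈ A' :=
            hAconj ⟨(x ^ i₂)⁻¹, inv_mem (pow_mem hxP _)⟩ g hg
          rw [_root_.map_inv, inv_inv] at h
          exact h
      have hBγ : B.map (MulAut.conj (θ (x ^ i₂))).toMonoidHom ⊔ Subgroup.zpowers γ = A' := by
        conv_rhs => rw [← hA'map, ← hBc, Subgroup.map_sup, MonoidHom.map_zpowers]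
        rfl
      obtain ⟨r, b', hb', hrb⟩ : ∃ r : ℕ, ∃ b' ∈ B.map (MulAut.conj (θ (x ^ i₂))).toMonoidHom, γ = β ^ r * b' := by
        have hβ' : β ∈ B.map (MulAut.conj (θ (x ^ i₂))).toMonoidHom ⊔ Subgroup.zpowers γ := hBγ.symm ▸ hβA
        have hγA : γ ∈ A' := hAconj ⟨x ^ i₂, pow_mem hxP _⟩ c hcA
        have hBA' : B.map (MulAut.conj (θ (x ^ i₂))).toMonoidHom ≤ A' := hA'map ▸ Subgroup.map_mono hBA
        have hnor : Subgroup.zpowers γ ≤ Subgroup.normalizer (B.map (MulAut.conj (θ (x ^ i₂))).toMonoidHom : Set _) := by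
          rw [Subgroup.zpowers_le]
          refine Subgroup.mem_normalizer_fintype fun g hg => ?_
          rw [(isEA_commute hA'e hγA (hBA' hg)).eq, mul_inv_cancel_right]
          exact hg
        rw [← SetLike.mem_coe, Subgroup.coe_mul_of_right_le_normalizer_left _ _ hnor] at hβ'
        obtain ⟨b', hb', z, hz, hbz⟩ := hβ'
        simp only at hbz
        obtain ⟨t, ht⟩ := Subgroup.mem_zpowers_iff.1 hz
        have hzp : z ≠ 1 := fun h => hbB (by rw [← hbz, h, mul_one]; exact hb')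
        obtain ⟨s, hs⟩ : ∃ s : ℕ, z ^ s = γ := by
          have hoz : orderOf γ = p := orderOf_eq_prime (hA'e.2 γ hγA) fun h1 => hzp (by rw [← ht, h1, one_zpow])
          haveI : Finite (MulAut (↥C ⧸ Subgroup.center ↥C)) :=
            Finite.of_injective (fun e => (e : _ → _)) fun a b h => MulEquiv.ext (congrFun h)
          refine (isOfFinOrder_of_finite z).mem_powers_iff_mem_zpowers.2 ?_
          have h6 := zpowers_eq_of_prime_order hoz (ht ▸ Subgroup.zpow_mem_zpowers γ t) hzp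
          rw [h6]; exact Subgroup.mem_zpowers γ
        refine ⟨s, (b' ^ s)⁻¹, inv_mem (pow_mem hb' s), ?_⟩
        rw [← hbz, (isEA_commute hA'e (hBA' hb') (ht ▸ Subgroup.zpow_mem A' hγA t)).mul_pow, hs,
          (isEA_commute hA'e (pow_mem (hBA' hb') s) hγA).eq, mul_inv_cancel_right]
      set u : ↥C := MulAut.conjNormal (x ^ i₁) l₀ with hu
      set k : ↥C := MulAut.conjNormal (x ^ i₂) k₀ with hk
      set v : ↥C := MulAut.conjNormal (x ^ i₂) l₀ with hv
      have hb'k : b' (QuotientGroup.mk k) = QuotientGroup.mk k := by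
        obtain ⟨b₀, hb₀, rfl⟩ := hb'
        rw [hk, ← hθconj, hk₀]
        show (θ (x ^ i₂) * b₀ * (θ (x ^ i₂))⁻¹) (θ (x ^ i₂) m) = θ (x ^ i₂) m
        simp [MulAut.mul_apply, hBm b₀ hb₀]
      have hbu : β (QuotientGroup.mk u) = QuotientGroup.mk u := by
        rw [hu, ← hθconj, hl₀, hβ]
        simp [MulAut.mul_apply, hm₁B b hb]
      obtain ⟨⟨g, hgP⟩, hg0, hgβ⟩ : ∃ g : ↥P, (g : T) ∈ Subgroup.centralizer (Z : Set T) ∧ θ g = β ^ r := by
        have hβr : β ^ r ∈ A' := pow_mem hβA r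
        obtain ⟨a', ha', hae⟩ := hβr
        obtain ⟨g, hg, rfl⟩ := hAN ha'
        exact ⟨g, (Subgroup.mem_subgroupOf.1 hg).2, hae⟩
      have hgu : (QuotientGroup.mk (MulAut.conjNormal g u) : ↥C ⧸ Subgroup.center ↥C) = QuotientGroup.mk u := by
        rw [← hθconj, hgβ]
        exact mulAut_pow_apply_fixed hbu r
      have hvw : (QuotientGroup.mk v : ↥C ⧸ Subgroup.center ↥C) =
          QuotientGroup.mk (k⁻¹ * MulAut.conjNormal g k) := by
        rw [QuotientGroup.mk_mul, QuotientGroup.mk_inv, ← hθconj g k, hgβ, hv, ← hθconj, hl₀, hm₁, map_mul,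
          map_inv, hk, ← hθconj, hk₀]
        congr 1
        calc θ (x ^ i₂) (c m) = γ (θ (x ^ i₂) m) := by simp [hγ, MulAut.mul_apply]
          _ = (β ^ r) (b' (θ (x ^ i₂) m)) := by rw [hrb, MulAut.mul_apply]
          _ = (β ^ r) (θ (x ^ i₂) m) := by
              congr 1
              rw [← hk₀, hθconj]; exact hb'k
      refine (commutatorElement_eq_one_iff_commute.1 ?_)
      rw [show x ^ i₁ * (l₀ : T) * (x ^ i₁)⁻¹ = (u : T) from (MulAut.conjNormal_apply _ _).symm,
        show x ^ i₂ * (l₀ : T) * (x ^ i₂)⁻¹ = (v : T) from (MulAut.conjNormal_apply _ _).symm,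
        hbilin u v _ hvw]
      have hcen : ∀ z ∈ Z, ∀ w : ↥C, z * (w : T) = (w : T) * z := fun z hz w => (hz.2 w w.2).symm
      have e3 : ⁅(u : T), (k : T)⁻¹ * (g * k * g⁻¹)⁆ = ⁅(u : T), (k : T)⁻¹⁆ * ⁅(u : T), g * k * g⁻¹⁆ := by
        have h7 : ⁅(u : T), g * (k : T) * g⁻¹⁆ ∈ Z := hCC _ u.2 _ (hCn.conj_mem _ k.2 g)
        calc ⁅(u : T), (k : T)⁻¹ * (g * k * g⁻¹)⁆
            = ⁅(u : T), (k : T)⁻¹⁆ * ((k⁻¹ : C) * ⁅(u : T), g * k * g⁻¹⁆ * ((k⁻¹ : C) : T)⁻¹) := by
              simp only [commutatorElement_def, Subgroup.coe_inv]; group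
          _ = _ := by rw [← hcen _ h7 k⁻¹, mul_inv_cancel_right]
      have e4 : ⁅(u : T), g * k * g⁻¹⁆ = ⁅(u : T), (k : T)⁆ := by
        have h8 : ⁅g * (u : T) * g⁻¹, g * k * g⁻¹⁆ = ⁅(u : T), g * k * g⁻¹⁆ := by
          have h9 := hbilin ⟨g * k * g⁻¹, hCn.conj_mem _ k.2 g⟩ _ _ hgu
          rw [MulAut.conjNormal_apply g u] at h9
          rw [← commutatorElement_inv (g * k * g⁻¹) (g * (u : T) * g⁻¹),
            ← commutatorElement_inv (g * k * g⁻¹) (u : T)]
          exact congrArg (·⁻¹) h9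
        rw [← h8, ← conjugate_commutatorElement]
        have h10 := Subgroup.mem_centralizer_iff.1 hg0 _ (hCC _ u.2 _ k.2)
        rw [← h10, mul_inv_cancel_right]
      have e5 : ⁅(u : T), (k : T)⁻¹⁆ = ⁅(u : T), (k : T)⁆⁻¹ := by
        calc ⁅(u : T), (k : T)⁻¹⁆ = ((k⁻¹ : C) : T) * ⁅(u : T), (k : T)⁆⁻¹ * ((k⁻¹ : C) : T)⁻¹ := by
              simp only [commutatorElement_def, Subgroup.coe_inv]; group
          _ = _ := by rw [← hcen _ (inv_mem (hCC _ u.2 _ k.2)) k⁻¹, mul_inv_cancel_right]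
      rw [Subgroup.coe_mul, Subgroup.coe_inv, MulAut.conjNormal_apply g k, e3, e4, e5, inv_mul_cancel]
    -- the stabilizer of `B` in `⟨x⟩` is trivial modulo `x ^ p ^ (n + 1)`
    have hstab : ∀ i : ℕ, (∀ b ∈ B, θ (x ^ i) * b * (θ (x ^ i))⁻¹ ∈ B) → x ^ i = 1 := by
      intro i hi
      by_contra hxi
      apply hyB
      obtain ⟨s, rfl⟩ : ∃ s : ℕ, (x ^ i) ^ s = y := by
        rw [← hxy]
        obtain ⟨e, he⟩ : ∃ e, i.gcd (p ^ (n + 1)) = p ^ e ∧ e ≤ n := by
          obtain ⟨e, he, hee⟩ := (Nat.dvd_prime_pow hp.out).1 (Nat.gcd_dvd_right i (p ^ (n + 1)))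
          refine ⟨e, hee, ?_⟩
          by_contra hlt
          have : p ^ (n + 1) ∣ i := by
            have h11 : e = n + 1 := by omega
            rw [← h11, ← hee]; exact Nat.gcd_dvd_left _ _
          obtain ⟨t, rfl⟩ := this
          exact hxi (by rw [pow_mul, hxn, one_pow])
        obtain ⟨heq, hen⟩ := he
        obtain ⟨s, hs⟩ : ∃ s : ℕ, (x ^ i) ^ s = x ^ p ^ e := by
          refine (isOfFinOrder_of_finite (x ^ i)).mem_powers_iff_mem_zpowers.2 ?_
          have hb := Nat.gcd_eq_gcd_ab i (p ^ (n + 1))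
          rw [heq] at hb
          refine ⟨i.gcdA (p ^ (n + 1)), ?_⟩
          show (x ^ i) ^ _ = _
          rw [← zpow_natCast x i, ← zpow_mul, ← zpow_natCast x (p ^ e), hb, zpow_add, zpow_mul x ((p ^ (n + 1) : ℕ) : ℤ),
            zpow_natCast, hxn, one_zpow, mul_one]
        exact ⟨s * p ^ (n - e), by rw [pow_mul, hs, ← pow_mul, ← pow_add, Nat.add_sub_cancel' hen]⟩
      rw [map_pow]
      intro b hb
      have : ∀ k : ℕ, (θ (x ^ i)) ^ k * b * ((θ (x ^ i)) ^ k)⁻¹ ∈ B := by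
        intro k
        induction k with
        | zero => simpa using hb
        | succ k ih =>
          have := hi _ ih
          rw [pow_succ']
          simpa [mul_assoc] using this
      exact this s
    -- the invariant abelian subgroup
    set gen : Set T := Set.range fun i : ℕ => x ^ i * (l₀ : T) * (x ^ i)⁻¹ with hgen
    have hgc : ∀ a ∈ gen, ∀ b ∈ gen, a * b = b * a := by
      rintro _ ⟨i₁, rfl⟩ _ ⟨i₂, rfl⟩
      by_cases hsame : ∀ b ∈ B, θ (x ^ i₁) * b * (θ (x ^ i₁))⁻¹ ∈ B.map (MulAut.conj (θ (x ^ i₂))).toMonoidHom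
      · have hP' : p ^ (n + 1) ∣ p ^ (n + 1) * i₂ := Dvd.intro _ rfl
        have h12 : ∀ b ∈ B, θ (x ^ (i₁ + (p ^ (n + 1) - 1) * i₂)) * b *
            (θ (x ^ (i₁ + (p ^ (n + 1) - 1) * i₂)))⁻¹ ∈ B := by
          intro b hb
          obtain ⟨b', hb', he⟩ := hsame b hb
          have hinv : x ^ ((p ^ (n + 1) - 1) * i₂) = (x ^ i₂)⁻¹ := by
            rw [eq_inv_iff_mul_eq_one, ← pow_add, Nat.sub_mul, one_mul,
              Nat.sub_add_cancel (Nat.le_mul_of_pos_left _ (pow_pos hp.out.pos _)), pow_mul, hxn, one_pow]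
          rw [add_comm, pow_add, hinv, map_mul, map_inv]
          simp only [MulEquiv.coe_toMonoidHom, MulAut.conj_apply] at he
          have : (θ (x ^ i₂))⁻¹ * θ (x ^ i₁) * b * ((θ (x ^ i₂))⁻¹ * θ (x ^ i₁))⁻¹ = b' := by
            calc _ = (θ (x ^ i₂))⁻¹ * (θ (x ^ i₁) * b * (θ (x ^ i₁))⁻¹) * θ (x ^ i₂) := by group
              _ = b' := by rw [← he]; group
          rw [this]; exact hb'
        have h13 := hstab _ h12
        have : x ^ i₁ = x ^ i₂ := by
          have h14 : x ^ (i₁ + (p ^ (n + 1) - 1) * i₂) * x ^ i₂ = x ^ i₂ := by rw [h13, one_mul]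
          rwa [← pow_add, add_assoc, Nat.sub_mul, one_mul,
            Nat.sub_add_cancel (Nat.le_mul_of_pos_left _ (pow_pos hp.out.pos _)), pow_add, pow_mul, hxn, one_pow,
            mul_one] at h14
        simp only [this]
      · exact (hpiece i₁ i₂ hsame).eq
    have hDL : Subgroup.closure gen ≤ L := by
      rw [Subgroup.closure_le]
      rintro _ ⟨i, rfl⟩
      exact hCL (hCn.conj_mem _ l₀.2 _)
    have hDab : ∀ a ∈ Subgroup.closure gen, ∀ b ∈ Subgroup.closure gen, Commute a b := by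
      intro a ha b hb
      have := Subgroup.isMulCommutative_closure hgc
      exact congrArg Subtype.val (this.is_comm.comm (⟨a, ha⟩ : Subgroup.closure gen) ⟨b, hb⟩)
    have hDx : ∀ d ∈ Subgroup.closure gen, x * d * x⁻¹ ∈ Subgroup.closure gen := by
      intro d hd
      have hle : Subgroup.closure gen ≤ (Subgroup.closure gen).comap (MulAut.conj x).toMonoidHom := by
        rw [Subgroup.closure_le]
        rintro _ ⟨i, rfl⟩
        refine Subgroup.subset_closure ⟨i + 1, ?_⟩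
        simp [pow_succ', mul_assoc]
      exact hle hd
    have hyl := Subgroup.mem_centralizer_iff.1 (hD _ hDL hDab hDx) _ (Subgroup.subset_closure ⟨0, rfl⟩)
    simp only [pow_zero, one_mul, inv_one, mul_one] at hyl
    have hym : θ y m₁ = m₁ := by
      rw [← hl₀]
      refine hθ y l₀ l₀ ?_
      rw [← hyl, mul_inv_cancel_right]
    -- so `y B y⁻¹` fixes `m₁` as well, hence `c` does
    apply hm₁c
    obtain ⟨b, hb, hbB⟩ := not_forall₂.1 hyB |>.imp fun b h => h
    set β := θ y * b * (θ y)⁻¹ with hβ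
    have hβm : β m₁ = m₁ := by
      simp only [hβ, MulAut.mul_apply]
      have h15 : (θ y)⁻¹ m₁ = m₁ := by
        conv_lhs => rw [← hym]
        exact MulEquiv.symm_apply_apply _ _
      rw [h15, hm₁B b hb, hym]
    have hβA : β ∈ A' := hAconj ⟨y, hyP⟩ b (hBA hb)
    have hle : A' ≤ MulAction.stabilizer (MulAut (↥C ⧸ Subgroup.center ↥C)) m₁ := by
      have hnor : Subgroup.zpowers c ≤ Subgroup.normalizer (B : Set _) := by
        rw [Subgroup.zpowers_le]
        refine Subgroup.mem_normalizer_fintype fun g hg => ?_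
        rw [(isEA_commute hA'e hcA (hBA hg)).eq, mul_inv_cancel_right]
        exact hg
      have hβ' : β ∈ B ⊔ Subgroup.zpowers c := hBc.symm ▸ hβA
      rw [← SetLike.mem_coe, Subgroup.coe_mul_of_right_le_normalizer_left _ _ hnor] at hβ'
      obtain ⟨b', hb', z, hz, hbz⟩ := hβ'
      simp only at hbz
      have hz1 : z ≠ 1 := fun h => hbB (by rw [← hbz, h, mul_one]; exact hb')
      have hoz : orderOf c = p := orderOf_eq_prime (hA'e.2 c hcA) hc1
      have h16 : Subgroup.zpowers z = Subgroup.zpowers c := zpowers_eq_of_prime_order hoz hz hz1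
      rw [← hBc, ← h16]
      refine sup_le (fun g hg => hm₁B g hg) (Subgroup.zpowers_le.2 ?_)
      show z m₁ = m₁
      rw [show z = b'⁻¹ * β by rw [← hbz, inv_mul_cancel_left], MulAut.mul_apply, hβm]
      exact hm₁B _ (inv_mem hb')
    exact hle hcA
  -- conclusion
  obtain ⟨hy0, -⟩ := hsP₀ y hy
  obtain ⟨hy0', -⟩ := hsP₀ y' hy'
  have h1 := isEA_commute hAe (key y hy hy0.1) (key y' hy' hy0'.1)
  refine hkerθ _ ?_ ?_
  · rw [commutatorElement_def]
    exact mul_mem (mul_mem (mul_mem hy0 hy0') (inv_mem hy0)) (inv_mem hy0')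
  · rw [map_commutatorElement]
    exact commutatorElement_eq_one_iff_mul_comm.2 (congrArg Subtype.val h1.eq)

end CfsgLib.PLengthHH
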