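import Cfsg.Agent.Lib.PLengthHH.Step
import Cfsg.Agent.Lib.PLengthHH.Commute

/-! The `p`-length is at most the derived length of a Sylow `p`-subgroup. -/

set_option autoImplicit false

open Cfsg

namespace CfsgLib.PLengthHH

open scoped commutatorElement

universe u

section Abstract

variable {S : Type u} [CommGroup S] [Finite S]

/-- `s ↦ σ s / s`. -/
def moveHom (σ : MulAut S) : S →* S where
  toFun s := σ s / s
  map_one' := by simp
  map_mul' s t := by rw [map_mul, mul_div_mul_comm]

omit [Finite S] in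
theorem mem_range_moveHom {σ : MulAut S} (hexp : ∀ s : S, s * s = 1) (h3 : σ ^ 3 = 1) {t : S}
    (ht : t ∈ (moveHom σ).range) (hfix : σ t = t) : t = 1 := by
  obtain ⟨s, rfl⟩ := ht
  change σ (σ s / s) = σ s / s at hfix
  rw [map_div] at hfix
  have h1 : σ (σ (σ s)) = s := by
    have := MulEquiv.congr_fun h3 s
    simpa [pow_succ, MulAut.mul_apply] using this
  have h2 : σ (σ s) = s := by
    rw [div_eq_div_iff_mul_eq_mul, hexp] at hfix
    calc σ (σ s) = σ (σ s) * (s * s) := by rw [hexp, mul_one]
      _ = s := by rw [← mul_assoc, hfix, one_mul]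
  rw [h2] at h1
  show σ s / s = 1
  rw [h1, div_self']

omit [Finite S] in
/-- At most four elements: three independent values of an anisotropic form cannot all be `-1`. -/
theorem card_le_four_of_anisotropic {F : Type*} [Field F] {β : S → S → F}
    (h2 : (-1 : F) ≠ 1) (hl : ∀ a b c, β (a * b) c = β a c * β b c) (hr : ∀ a b c, β a (b * c) = β a b * β a c)
    {σ : MulAut S} {T : Subgroup S} [Finite T] (hexp : ∀ s : S, s * s = 1)
    (hT : ∀ t ∈ T, t ≠ 1 → β t (σ t) = -1) : Nat.card T ≤ 4 := by
  classical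
  by_contra hlt
  push Not at hlt
  have hpick : ∀ s : Finset S, s.card ≤ 4 → ∃ t ∈ T, t ∉ s := by
    intro s hs
    by_contra hall
    push Not at hall
    have h1 : Nat.card T ≤ s.card := by
      rw [← Nat.card_eq_finsetCard]
      exact Nat.card_le_card_of_injective (fun t => (⟨t.1, hall t.1 t.2⟩ : s)) fun a b h => Subtype.ext (congrArg (fun z : s => z.1) h)
    omega
  obtain ⟨u, hu, hu1⟩ := hpick {1} (by simp)
  obtain ⟨v, hv, hv1⟩ := hpick {1, u} (Finset.card_le_two.trans (by omega))
  obtain ⟨w, hw, hw1⟩ := hpick {1, u, v, u * v} (Finset.card_le_four)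
  simp only [Finset.mem_insert, Finset.mem_singleton, not_or] at hu1 hv1 hw1
  have key : ∀ a ∈ T, ∀ b ∈ T, a ≠ 1 → b ≠ 1 → a * b ≠ 1 → β a (σ b) * β b (σ a) = -1 := by
    intro a ha b hb ha1 hb1 hab
    have h := hT _ (T.mul_mem ha hb) hab
    rw [map_mul, hr, hl, hl, hT a ha ha1, hT b hb hb1] at h
    linear_combination h
  have hne : ∀ a b : S, a ≠ b → a * b ≠ 1 := fun a b h e => h (by
    calc a = a * (b * b) := by rw [hexp, mul_one]
      _ = b := by rw [← mul_assoc, e, one_mul])
  have huv := hne u v (fun e => hv1.2 e.symm)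
  have e1 := key u hu v hv hu1 hv1.1 huv
  have e2 := key u hu w hw hu1 hw1.1 (hne u w (fun e => hw1.2.1 e.symm))
  have e3 := key v hv w hw hv1.1 hw1.1 (hne v w (fun e => hw1.2.2.1 e.symm))
  have h := hT _ (T.mul_mem (T.mul_mem hu hv) hw) (hne _ _ (fun e => hw1.2.2.2 e.symm))
  simp only [map_mul, hr, hl] at h
  rw [show β u (σ u) = -1 from hT u hu hu1, show β v (σ v) = -1 from hT v hv hv1.1,
    show β w (σ w) = -1 from hT w hw hw1.1] at h
  have h' : (-1 : F) * -1 * -1 * ((β u (σ v) * β v (σ u)) * (β u (σ w) * β w (σ u)) * (β v (σ w) * β w (σ v))) = -1 := by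
    linear_combination h
  rw [e1, e2, e3] at h'
  exact h2 (by linear_combination -h')

/-- The group-theoretic core for `p = 3`. -/
theorem no_derived_action {P : Type u} [Group P] (θ : P →* MulAut S) (hP : IsPGroup 3 P)
    {F : Type*} [Field F] {β : S → S → F}
    (h2 : (-1 : F) ≠ 1) (hl : ∀ a b c, β (a * b) c = β a c * β b c) (hr : ∀ a b c, β a (b * c) = β a b * β a c)
    (hexp : ∀ s : S, s * s = 1) {A : Subgroup P} [A.Normal] (hAD : A ≤ commutator P)
    (hA : ∀ a ∈ A, ∀ b ∈ A, Commute a b) (hA3 : ∀ a ∈ A, a ^ 3 = 1)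
    (haniso : ∀ a ∈ A, ∀ t ∈ (moveHom (θ a)).range, t ≠ 1 → β t (θ a t) = -1) :
    ∀ a ∈ A, θ a = 1 := by
  classical
  have h3 : ∀ a ∈ A, θ a ^ 3 = 1 := fun a ha => by rw [← map_pow, hA3 a ha, map_one]
  have hinv : ∀ a ∈ A, ∀ b ∈ A, ∀ t ∈ (moveHom (θ a)).range, θ b t ∈ (moveHom (θ a)).range := by
    rintro a ha b hb _ ⟨s, rfl⟩
    refine ⟨θ b s, ?_⟩
    show θ a (θ b s) / θ b s = θ b (θ a s / s)
    rw [map_div, ← MulAut.mul_apply, ← map_mul, (hA a ha b hb).eq, map_mul, MulAut.mul_apply]
  have hmove : ∀ a ∈ A, ∀ t ∈ (moveHom (θ a)).range, t ≠ 1 → θ a t ≠ t := fun a ha t ht ht1 h =>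
    ht1 (mem_range_moveHom hexp (h3 a ha) ht h)
  -- an orbit fills the range
  have hfill : ∀ a ∈ A, ∀ t ∈ (moveHom (θ a)).range, t ≠ 1 → ∀ U : Subgroup S,
      t ∈ U → θ a t ∈ U → (moveHom (θ a)).range ≤ U := by
    intro a ha t ht ht1 U htU htU'
    have hle := card_le_four_of_anisotropic h2 hl hr hexp (haniso a ha)
    have hσt := hinv a ha a ha t ht
    have hsub : Nat.card (moveHom (θ a)).range ≤ Nat.card ↥((moveHom (θ a)).range ⊓ U) := by
      have hne1 : θ a t ≠ 1 := fun h => ht1 ((θ a).injective (h.trans (map_one (θ a)).symm))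
      have hcard : ({1, t, θ a t, t * θ a t} : Finset S).card = 4 := by
        rw [Finset.card_insert_of_notMem, Finset.card_insert_of_notMem, Finset.card_pair]
        · intro h
          exact ht1 (mul_eq_right.1 h.symm)
        · simp only [Finset.mem_insert, Finset.mem_singleton, not_or]
          exact ⟨fun h => hmove a ha t ht ht1 h.symm, fun h => hne1 (mul_eq_left.1 h.symm)⟩
        · simp only [Finset.mem_insert, Finset.mem_singleton, not_or]
          refine ⟨Ne.symm ht1, Ne.symm hne1, fun h => hmove a ha t ht ht1 ?_⟩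
          calc θ a t = (t * t) * θ a t := by rw [hexp, one_mul]
            _ = t := by rw [mul_assoc, ← h, mul_one]
      have h1 : ({1, t, θ a t, t * θ a t} : Finset S).card ≤ Nat.card ↥((moveHom (θ a)).range ⊓ U) := by
        rw [← Nat.card_eq_finsetCard]
        have hmem : ∀ x ∈ ({1, t, θ a t, t * θ a t} : Finset S), x ∈ (moveHom (θ a)).range ⊓ U := by
          intro x hx
          simp only [Finset.mem_insert, Finset.mem_singleton] at hx
          rcases hx with rfl | rfl | rfl | rfl
          · exact one_mem _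
          · exact ⟨ht, htU⟩
          · exact ⟨hσt, htU'⟩
          · exact mul_mem ⟨ht, htU⟩ ⟨hσt, htU'⟩
        exact Nat.card_le_card_of_injective
          (fun x : ({1, t, θ a t, t * θ a t} : Finset S) => (⟨x.1, hmem x.1 x.2⟩ : ↥((moveHom (θ a)).range ⊓ U)))
          fun x y h => Subtype.ext (congrArg (fun z : ↥((moveHom (θ a)).range ⊓ U) => (z : S)) h)
      omega
    exact (Subgroup.eq_of_le_of_card_ge inf_le_left hsub).ge.trans inf_le_right
  intro a ha
  by_contra hne
  obtain ⟨s₀, hs₀⟩ : ∃ s, θ a s ≠ s := by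
    by_contra h
    push Not at h
    exact hne (MulEquiv.ext h)
  -- every conjugate has the same range
  have hsame : ∀ d : P, (moveHom (θ (d * a * d⁻¹))).range = (moveHom (θ a)).range := by
    intro d
    set b := d * a * d⁻¹ with hbd
    have hb : b ∈ A := (inferInstance : A.Normal).conj_mem a ha d
    have hb1 : θ b ≠ 1 := by
      intro h
      apply hne
      rw [hbd, map_mul, map_mul, map_inv, mul_inv_eq_one] at h
      exact mul_eq_left.1 h
    obtain ⟨sb, hsb⟩ : ∃ s, θ b s ≠ s := by
      by_contra h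
      push Not at h
      exact hb1 (MulEquiv.ext h)
    -- a common non-trivial point gives equality
    have hcommon : ∀ t : S, t ≠ 1 → t ∈ (moveHom (θ a)).range → t ∈ (moveHom (θ b)).range →
        (moveHom (θ b)).range = (moveHom (θ a)).range := fun t ht1 hta htb =>
      le_antisymm (hfill b hb t htb ht1 _ hta (hinv a ha b hb t hta))
        (hfill a ha t hta ht1 _ htb (hinv b hb a ha t htb))
    by_cases h1 : ∀ t ∈ (moveHom (θ a)).range, θ b t = t
    · by_cases h2' : ∀ t ∈ (moveHom (θ b)).range, θ a t = t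
      · -- both lie in the range of `θ (a b)`
        exfalso
        have hab : a * b ∈ A := mul_mem ha hb
        have hin : ∀ c ∈ A, ∀ c' ∈ A, (∀ t ∈ (moveHom (θ c)).range, θ c' t = t) →
            (moveHom (θ c)).range ≤ (moveHom (θ (c * c'))).range := by
          intro c hc c' hc' htriv
          have hbij : ∀ t ∈ (moveHom (θ c)).range, ∃ r ∈ (moveHom (θ c)).range, θ c r / r = t := by
            intro t ht
            let g : ↥(moveHom (θ c)).range →* ↥(moveHom (θ c)).range :=
              ((moveHom (θ c)).comp (moveHom (θ c)).range.subtype).codRestrict _ fun r => ⟨r, rfl⟩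
            have hginj : Function.Injective g := by
              rw [injective_iff_map_eq_one]
              intro r hr'
              have h4 : θ c (r : S) / r = 1 := congrArg Subtype.val hr'
              exact Subtype.ext (mem_range_moveHom hexp (h3 c hc) r.2 (div_eq_one.1 h4))
            obtain ⟨r, hr'⟩ := (Finite.injective_iff_surjective.1 hginj) ⟨t, ht⟩
            exact ⟨r, r.2, congrArg Subtype.val hr'⟩
          intro t ht
          obtain ⟨r, hr', rfl⟩ := hbij t ht
          refine ⟨r, ?_⟩
          show θ (c * c') r / r = θ c r / r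
          rw [map_mul, MulAut.mul_apply, htriv r hr']
        have hA' := hin a ha b hb h1
        have hB' := hin b hb a ha h2'
        rw [← (hA a ha b hb).eq] at hB'
        set t := θ a s₀ / s₀
        have ht : t ∈ (moveHom (θ a)).range := ⟨s₀, rfl⟩
        have ht1 : t ≠ 1 := fun h => hs₀ (div_eq_one.1 h)
        set tb := θ b sb / sb
        have htb : tb ∈ (moveHom (θ b)).range := ⟨sb, rfl⟩
        have htb1 : tb ≠ 1 := fun h => hsb (div_eq_one.1 h)
        -- the range of `θ (a b)` is the range of `θ a`, fixed by `θ b`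
        have hle : (moveHom (θ (a * b))).range ≤ (moveHom (θ a)).range := by
          refine hfill (a * b) hab t (hA' ht) ht1 _ ht ?_
          rw [map_mul, MulAut.mul_apply, h1 t ht]
          exact hinv a ha a ha t ht
        exact hmove b hb tb htb htb1 (h1 tb (hle (hB' htb)))
      · push Not at h2'
        obtain ⟨t, ht, hne'⟩ := h2'
        exact hcommon (θ a t / t) (fun h => hne' (div_eq_one.1 h)) ⟨t, rfl⟩
          ((moveHom (θ b)).range.div_mem (hinv b hb a ha t ht) ht)
    · push Not at h1
      obtain ⟨t, ht, hne'⟩ := h1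
      exact hcommon (θ b t / t) (fun h => hne' (div_eq_one.1 h))
        ((moveHom (θ a)).range.div_mem (hinv a ha b hb t ht) ht) ⟨t, rfl⟩
  -- so `P` permutes the range, through an abelian group
  set T := (moveHom (θ a)).range with hT
  have hPT : ∀ (d : P), ∀ t ∈ T, θ d t ∈ T := by
    rintro d _ ⟨s, rfl⟩
    show θ d _ ∈ (moveHom (θ a)).range
    have h6 : θ d (moveHom (θ a) s) ∈ (moveHom (θ (d * a * d⁻¹))).range := by
      refine ⟨θ d s, ?_⟩
      show θ (d * a * d⁻¹) (θ d s) / θ d s = θ d (θ a s / s)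
      rw [map_div, ← MulAut.mul_apply, ← map_mul, inv_mul_cancel_right, map_mul, MulAut.mul_apply]
    rw [hsame d] at h6
    exact h6
  let π : P →* Equiv.Perm ↥T :=
    { toFun := fun d =>
        { toFun := fun t => ⟨θ d t, hPT d t t.2⟩
          invFun := fun t => ⟨θ d⁻¹ t, hPT d⁻¹ t t.2⟩
          left_inv := fun t => Subtype.ext (by
            show θ d⁻¹ (θ d (t : S)) = t
            rw [← MulAut.mul_apply, ← map_mul, inv_mul_cancel, map_one, MulAut.one_apply])
          right_inv := fun t => Subtype.ext (by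
            show θ d (θ d⁻¹ (t : S)) = t
            rw [← MulAut.mul_apply, ← map_mul, mul_inv_cancel, map_one, MulAut.one_apply]) }
      map_one' := by ext t; simp
      map_mul' := fun d d' => by ext t; simp [MulAut.mul_apply] }
  haveI : Fact (Nat.Prime 3) := ⟨Nat.prime_three⟩
  have hcomm : commutator P ≤ π.ker := by
    rw [commutator_def, Subgroup.commutator_le]
    intro d _ d' _
    rw [MonoidHom.mem_ker, map_commutatorElement, commutatorElement_eq_one_iff_commute]
    have hp' : IsPGroup 3 π.range := hP.of_surjective π.rangeRestrict π.rangeRestrict_surjective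
    obtain ⟨i, hi⟩ := IsPGroup.iff_card.1 hp'
    have hdvd : 3 ^ i ∣ 24 := by
      have h5 := Subgroup.card_subgroup_dvd_card π.range
      rw [hi, Nat.card_perm] at h5
      exact h5.trans ((Nat.factorial_dvd_factorial (card_le_four_of_anisotropic h2 hl hr hexp (haniso a ha))).trans
        (by decide))
    have hi1 : i ≤ 1 := by
      by_contra hgt
      have h9 : 3 ^ 2 ∣ 24 := (pow_dvd_pow 3 (by omega : 2 ≤ i)).trans hdvd
      norm_num at h9
    have hcyc : IsCyclic π.range := by
      interval_cases i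
      · exact @isCyclic_of_subsingleton _ _ (Nat.card_eq_one_iff_unique.1 hi).1
      · exact isCyclic_of_prime_card (p := 3) (by rw [hi, pow_one])
    obtain ⟨g, hg⟩ := hcyc.exists_generator
    obtain ⟨i₁, h₁⟩ := Subgroup.mem_zpowers_iff.1 (hg ⟨π d, d, rfl⟩)
    obtain ⟨i₂, h₂⟩ := Subgroup.mem_zpowers_iff.1 (hg ⟨π d', d', rfl⟩)
    rw [show π d = ((g ^ i₁ : π.range) : Equiv.Perm ↥T) by rw [h₁],
      show π d' = ((g ^ i₂ : π.range) : Equiv.Perm ↥T) by rw [h₂], Subgroup.coe_zpow, Subgroup.coe_zpow]
    exact Commute.zpow_zpow_self _ _ _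
  have hat : θ a (θ a s₀ / s₀) = θ a s₀ / s₀ :=
    congrArg Subtype.val (Equiv.congr_fun (MonoidHom.mem_ker.1 (hcomm (hAD ha))) ⟨_, ⟨s₀, rfl⟩⟩)
  exact hs₀ (div_eq_one.1 (mem_range_moveHom hexp (h3 a ha) ⟨s₀, rfl⟩ hat))

end Abstract

end CfsgLib.PLengthHH
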