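import Cfsg.Agent.Lib.PLengthHH.Derived

/-! Derived subgroups of `3`-groups acting quadratically: the application. -/

set_option autoImplicit false

open Cfsg

namespace CfsgLib.PLengthHH

open scoped commutatorElement

universe u

theorem fbar_three_neg_one [Fact (Nat.Prime 3)] : (-1 : Fbar 3) ≠ 1 := by
  intro h
  have h2 : ((2 : ℕ) : Fbar 3) = 0 := by push_cast; linear_combination -h
  rw [CharP.cast_eq_zero_iff (Fbar 3) 3] at h2
  omega

/-- In characteristic `3`, a derived subgroup of quadratic elements centralizes a normal `2`-group. -/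
theorem derived_le_centralizer [h3 : Fact (Nat.Prime 3)] {T : Type u} [Group T] [Finite T] {d : ℕ}
    {ρ : T →* Module.End (Fbar 3) (Fin d → Fbar 3)} (hρ : Function.Injective ρ) {L : Subgroup T} [L.Normal]
    (hL : IsPGroup 2 L) {D : Subgroup T} (hD : IsPGroup 3 D)
    (hA : ∀ a ∈ ⁅D, D⁆, ∀ b ∈ ⁅D, D⁆, Commute a b) (hA3 : ∀ a ∈ ⁅D, D⁆, a ^ 3 = 1)
    (hquad : ∀ a ∈ ⁅D, D⁆, (ρ a - 1) ^ 2 = 0)
    (hcube : ∀ a ∈ ⁅D, D⁆, ∀ x ∈ D, (ρ a - 1) * ((ρ x - 1) * (ρ x - 1)) = 0) :
    ⁅D, D⁆ ≤ Subgroup.centralizer (L : Set T) := by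
  classical
  haveI : Fact (Nat.Prime 2) := ⟨Nat.prime_two⟩
  have h23 : (2 : ℕ) ≠ 3 := by omega
  have hneg := fbar_three_neg_one
  set A := ⁅D, D⁆ with hAdef
  have hAD : A ≤ D := by
    rw [hAdef, Subgroup.commutator_le]
    intro x hx y hy
    rw [commutatorElement_def]
    exact mul_mem (mul_mem (mul_mem hx hy) (inv_mem hx)) (inv_mem hy)
  obtain ⟨H₀, hH₀, hfrat, hcom, hself₀⟩ := CfsgLib.Transfer.exists_critical hL
  set C := H₀.map L.subtype with hC
  haveI hCn : C.Normal := inferInstance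
  have hCL : C ≤ L := Subgroup.map_subtype_le _
  have hCq : IsPGroup 2 C := hL.to_le hCL
  set Z := C ⊓ Subgroup.centralizer (C : Set T) with hZ
  have hCC : ∀ a ∈ C, ∀ b ∈ C, ⁅a, b⁆ ∈ Z := by
    rintro _ ⟨a, ha, rfl⟩ _ ⟨b, hb, rfl⟩
    have h := hcom (Subgroup.commutator_mem_commutator ha (Subgroup.mem_top b))
    refine ⟨⟨_, h.1, map_commutatorElement L.subtype a b⟩, ?_⟩
    rintro _ ⟨k, hk, rfl⟩
    exact congrArg Subtype.val (h.2 k hk)
  have hsq : ∀ c ∈ C, c * c ∈ Z := by
    rintro _ ⟨c, hc, rfl⟩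
    refine ⟨⟨c * c, mul_mem hc hc, map_mul L.subtype c c⟩, ?_⟩
    rintro _ ⟨k, hk, rfl⟩
    have h1 : ((⟨c, hc⟩ : H₀) ^ 2 : H₀) ∈ frattini ↥H₀ :=
      CfsgLib.Transfer.pow_mem_frattini (hL.to_subgroup H₀) _
    have h2 : (k : ↥L) * (c * c) = (c * c) * k := by
      have h3' := hfrat (Subgroup.mem_map_of_mem H₀.subtype h1)
      have := Subgroup.mem_centralizer_iff.1 h3' k hk
      simpa [pow_two] using this
    exact congrArg Subtype.val h2
  have hself : L ⊓ Subgroup.centralizer (C : Set T) ≤ C := by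
    rintro l ⟨hl, hlc⟩
    exact ⟨⟨l, hl⟩, hself₀ fun k hk => Subtype.ext (hlc (k : T) ⟨k, hk, rfl⟩), rfl⟩
  -- elements of `A` centralize `Z`
  have hAZ : ∀ a ∈ A, a ∈ Subgroup.centralizer (Z : Set T) := by
    intro a ha
    refine Subgroup.mem_centralizer_iff.2 fun z hz => ?_
    have h := commute_of_degree (p := 3) (q := 2) (n := 1) (r := 2) hρ (by omega) h23 (Q := Z) (x := a)
      (hCq.to_le inf_le_left) (Or.inr fun u hu v hv => (show Commute u v from (hu.2 v hv.1).symm))
      (fun g hg => (inferInstance : Z.Normal).conj_mem g hg a) le_rfl (by rw [pow_one]; exact hA3 a ha)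
      (hquad a ha) (by norm_num) hz
    simpa using h.eq
  intro a₀ ha₀
  have hcop : (orderOf a₀).Coprime (Nat.card L) := by
    obtain ⟨i, hi⟩ := IsPGroup.iff_card.1 hL
    rw [hi]
    exact Nat.Coprime.coprime_dvd_left (orderOf_dvd_of_pow_eq_one (hA3 a₀ ha₀))
      (Nat.Coprime.pow_right i (by decide))
  refine centralize_of_critical hCL hself (Subgroup.le_normalizer_of_normal (Subgroup.mem_top a₀)) hcop ?_
  refine Subgroup.mem_centralizer_iff.2 fun c₀ hc₀ => ?_
  by_contra hne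
  -- minimal subspace on which `A` does not commute with `C`
  let Good : Submodule (Fbar 3) (Fin d → Fbar 3) → Prop := fun W =>
    (∀ g, g ∈ C ∨ g ∈ A → ∀ w ∈ W, ρ g w ∈ W) ∧ ∃ a ∈ A, ∃ c ∈ C, ∃ w ∈ W, ρ (a * c) w ≠ ρ (c * a) w
  have htop : Good ⊤ := by
    refine ⟨fun _ _ _ _ => Submodule.mem_top, a₀, ha₀, c₀, hc₀, ?_⟩
    by_contra h
    push Not at h
    exact hne (hρ (LinearMap.ext fun w => (h w Submodule.mem_top).symm))
  obtain ⟨W₀, hW₀, hmin⟩ := wellFounded_lt.has_min {W | Good W} ⟨⊤, htop⟩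
  obtain ⟨hinv, a₁, ha₁, c₁, hc₁, w₁, hw₁, hne₁⟩ := hW₀
  set Γ : Set T := {z | ∃ c ∈ C, ∃ k ∈ C, z = ⁅c, k⁆} with hΓ
  have hΓZ : ∀ z ∈ Γ, z ∈ Z := by rintro _ ⟨c, hc, k, hk, rfl⟩; exact hCC c hc k hk
  have hΓ2 : ∀ z ∈ Γ, z * z = 1 := by
    rintro _ ⟨c, hc, k, hk, rfl⟩
    have hz := hCC c hc k hk
    have h1 : ⁅c * c, k⁆ = c * ⁅c, k⁆ * c⁻¹ * ⁅c, k⁆ := by simp only [commutatorElement_def]; group
    rw [show c * ⁅c, k⁆ * c⁻¹ = ⁅c, k⁆ by rw [hz.2 c hc, mul_inv_cancel_right]] at h1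
    rw [← h1, commutatorElement_eq_one_iff_mul_comm]
    exact ((hsq c hc).2 k hk).symm
  have hΓcomm : ∀ z ∈ Γ, ∀ g, g ∈ C ∨ g ∈ A → z * g = g * z := by
    intro z hz g hg
    rcases hg with hg | hg
    · exact ((hΓZ z hz).2 g hg).symm
    · exact Subgroup.mem_centralizer_iff.1 (hAZ g hg) z (hΓZ z hz)
  have happ : ∀ g h : T, ∀ w, ρ (g * h) w = ρ g (ρ h w) := fun g h w => by rw [map_mul]; rfl
  have hscal : ∀ z ∈ Γ, ∃ s : Fbar 3, (s = 1 ∨ s = -1) ∧ ∀ w ∈ W₀, ρ z w = s • w := by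
    intro z hz
    have hzinv : ∀ w ∈ W₀, ρ z w ∈ W₀ := hinv z (Or.inl (hΓZ z hz).1)
    have hsplit : ∀ s : Fbar 3, (W₀ ⊓ LinearMap.ker (ρ z - s • 1) : Submodule _ _) = W₀ ∨
        ∀ w ∈ W₀, ρ z w = s • w → ρ (a₁ * c₁) w = ρ (c₁ * a₁) w := by
      intro s
      by_cases hall : ∀ w ∈ W₀, ρ z w = s • w → ρ (a₁ * c₁) w = ρ (c₁ * a₁) w
      · exact Or.inr hall
      push Not at hall
      obtain ⟨w, hw, hwz, hwne⟩ := hall
      refine Or.inl ?_
      by_contra hlt
      refine hmin _ ⟨?_, a₁, ha₁, c₁, hc₁, w, Submodule.mem_inf.2 ⟨hw, by simpa [sub_eq_zero] using hwz⟩, hwne⟩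
        (lt_of_le_of_ne inf_le_left hlt)
      rintro g hg u ⟨hu, hu'⟩
      refine ⟨hinv g hg u hu, ?_⟩
      simp only [SetLike.mem_coe, LinearMap.mem_ker, LinearMap.sub_apply, LinearMap.smul_apply,
        Module.End.one_apply, sub_eq_zero] at hu' ⊢
      rw [← happ, hΓcomm z hz g hg, happ, hu', map_smul]
    have hfin : ∀ s : Fbar 3, (W₀ ⊓ LinearMap.ker (ρ z - s • 1) : Submodule _ _) = W₀ → ∀ w ∈ W₀, ρ z w = s • w := by
      intro s hs w hw
      have := (hs.ge hw).2
      simpa [sub_eq_zero] using this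
    rcases hsplit 1 with h | h
    · exact ⟨1, Or.inl rfl, hfin 1 h⟩
    rcases hsplit (-1) with h' | h'
    · exact ⟨-1, Or.inr rfl, hfin (-1) h'⟩
    exfalso
    apply hne₁
    have hzz : ρ z (ρ z w₁) = w₁ := by rw [← happ, hΓ2 z hz, map_one]; rfl
    have e1 := h (w₁ + ρ z w₁) (add_mem hw₁ (hzinv _ hw₁)) (by rw [map_add, hzz, one_smul, add_comm])
    have e2 := h' (w₁ - ρ z w₁) (sub_mem hw₁ (hzinv _ hw₁)) (by rw [map_sub, hzz, neg_one_smul, neg_sub])
    rw [map_add, map_add] at e1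
    rw [map_sub, map_sub] at e2
    have e3 : (2 : Fbar 3) • ρ (a₁ * c₁) w₁ = (2 : Fbar 3) • ρ (c₁ * a₁) w₁ := by
      rw [two_smul, two_smul]
      linear_combination (norm := abel_nf) e1 + e2
    exact smul_right_injective _ (fun h2 : (2 : Fbar 3) = 0 => hneg (by linear_combination -h2)) e3
  let ε : T → Fbar 3 := fun z => if hz : z ∈ Γ then Classical.choose (hscal z hz) else 1
  have hεv : ∀ z ∈ Γ, ε z = 1 ∨ ε z = -1 := fun z hz => by
    simp only [ε, dif_pos hz]; exact (Classical.choose_spec (hscal z hz)).1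
  have hε : ∀ z ∈ Γ, ∀ w ∈ W₀, ρ z w = ε z • w := fun z hz => by
    simp only [ε, dif_pos hz]; exact (Classical.choose_spec (hscal z hz)).2
  let W : Submodule (Fbar 3) (Fin d → Fbar 3) :=
    { carrier := {v | ∀ z ∈ Γ, ρ z v = ε z • v}
      add_mem' := fun {u v} hu hv z hz => by rw [map_add, hu z hz, hv z hz, smul_add]
      zero_mem' := fun z _ => by simp
      smul_mem' := fun s v hv z hz => by rw [map_smul, hv z hz, smul_comm] }
  have hW₀W : W₀ ≤ W := fun v hv z hz => hε z hz v hv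
  have hWinv : ∀ g, g ∈ C ∨ g ∈ A → ∀ w ∈ W, ρ g w ∈ W := fun g hg w hw z hz => by
    rw [← happ, hΓcomm z hz g hg, happ, hw z hz, map_smul]
  -- `D` stabilizes the signs
  have hΓconj : ∀ g : T, ∀ z ∈ Γ, g * z * g⁻¹ ∈ Γ := by
    rintro g _ ⟨c, hc, k, hk, rfl⟩
    exact ⟨_, hCn.conj_mem c hc g, _, hCn.conj_mem k hk g, by simp only [commutatorElement_def]; group⟩
  have hDε : ∀ x ∈ D, ∀ z ∈ Γ, ε (x * z * x⁻¹) = ε z := by
    intro x hx
    by_contra hmove
    push Not at hmove
    let e : ℕ → T → T := fun i z => (x ^ i)⁻¹ * z * x ^ i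
    have heΓ : ∀ i, ∀ z ∈ Γ, e i z ∈ Γ := fun i z hz => by simpa [e] using hΓconj (x ^ i)⁻¹ z hz
    have hee : ∀ i j z, e i (e j z) = e (j + i) z := fun i j z => by simp only [e, pow_add]; group
    obtain ⟨z₀, hz₀, hz₀'⟩ := hmove
    have hm1 : ∃ z ∈ Γ, ε (e 1 z) ≠ ε z :=
      ⟨x * z₀ * x⁻¹, hΓconj x z₀ hz₀, by
        rw [show e 1 (x * z₀ * x⁻¹) = z₀ by simp only [e, pow_one]; group]; exact hz₀'.symm⟩
    have hm2 : ∃ z ∈ Γ, ε (e 2 z) ≠ ε z := by
      by_contra hall
      push Not at hall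
      obtain ⟨z, hz, hne'⟩ := hm1
      apply hne'
      obtain ⟨i, hi⟩ := hD ⟨x, hx⟩
      have hxi : x ^ 3 ^ i = 1 := congrArg Subtype.val hi
      have hev : ∀ m : ℕ, ∀ y ∈ Γ, ε (e (2 * m) y) = ε y := by
        intro m
        induction m with
        | zero => intro y _; simp [e]
        | succ m ih =>
          intro y hy
          rw [show 2 * (m + 1) = 2 * m + 2 by ring, ← hee 2 (2 * m) y, hall _ (heΓ _ y hy), ih y hy]
      obtain ⟨m, hm⟩ : Odd (3 ^ i) := Odd.pow (by decide)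
      have h4 := hev (m + 1) z hz
      rw [show 2 * (m + 1) = 3 ^ i + 1 by omega] at h4
      simpa [e, pow_add, hxi] using h4
    obtain ⟨z1, hz1, hne1⟩ := hm1
    obtain ⟨z2, hz2, hne2⟩ := hm2
    apply hne₁
    have hkill : ∀ a ∈ A, ∀ v ∈ W, ρ a v = v := by
      intro a ha v hv
      have hcub := LinearMap.congr_fun (hcube a ha x hx) v
      have heig : ∀ i : ℕ, ∀ z ∈ Γ, ρ z (ρ (x ^ i) v) = ε (e i z) • ρ (x ^ i) v := by
        intro i z hz
        rw [← happ, show z * x ^ i = x ^ i * e i z by simp only [e]; group, happ, hv _ (heΓ i z hz), map_smul]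
      have hA' : ∀ i : ℕ, ∀ z ∈ Γ, ρ z (ρ a (ρ (x ^ i) v) - ρ (x ^ i) v) =
          ε (e i z) • (ρ a (ρ (x ^ i) v) - ρ (x ^ i) v) := by
        intro i z hz
        rw [map_sub, ← happ, hΓcomm z hz a (Or.inr ha), happ, heig i z hz, map_smul, smul_sub]
      set u : ℕ → (Fin d → Fbar 3) := fun i => ρ a (ρ (x ^ i) v) - ρ (x ^ i) v with hu
      have hsum : u 0 - u 1 - u 1 + u 2 = 0 := by
        simp only [hu, pow_zero, pow_one, map_one, Module.End.one_apply, pow_two, happ]
        simp only [Module.End.mul_apply, LinearMap.sub_apply, Module.End.one_apply, map_sub,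
          LinearMap.zero_apply] at hcub
        linear_combination (norm := abel_nf) hcub
      let Φ : Module.End (Fbar 3) (Fin d → Fbar 3) := (ρ z2 - ε (e 2 z2) • 1) * (ρ z1 - ε (e 1 z1) • 1)
      have hΦ : ∀ i : ℕ, Φ (u i) = ((ε (e i z2) - ε (e 2 z2)) * (ε (e i z1) - ε (e 1 z1))) • u i := by
        intro i
        simp only [Φ, Module.End.mul_apply, LinearMap.sub_apply, LinearMap.smul_apply, Module.End.one_apply]
        have h1 : ρ z1 (u i) = ε (e i z1) • u i := hA' i z1 hz1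
        have h2 : ρ z2 (u i) = ε (e i z2) • u i := hA' i z2 hz2
        rw [h1, ← sub_smul, map_smul, h2, smul_smul, smul_smul, ← sub_smul]
        congr 1; ring
      have hzero := congrArg Φ hsum
      rw [map_zero, map_add, map_sub, map_sub, hΦ 0, hΦ 1, hΦ 2, sub_self, sub_self, mul_zero, zero_mul,
        zero_smul, zero_smul, sub_zero, sub_zero, add_zero] at hzero
      have h0 : ∀ z, e 0 z = z := fun z => by simp [e]
      rw [h0, h0] at hzero
      rcases smul_eq_zero.1 hzero with h | h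
      · exact absurd h (mul_ne_zero (sub_ne_zero.2 hne2.symm) (sub_ne_zero.2 hne1.symm))
      · simpa [hu, sub_eq_zero] using h
    rw [happ, happ, hkill a₁ ha₁ _ (hW₀W (hinv c₁ (Or.inl hc₁) _ hw₁)), hkill a₁ ha₁ _ (hW₀W hw₁)]
  have hw₁ne : w₁ ≠ 0 := fun h => hne₁ (by simp [h])
  have hεmul : ∀ y ∈ Γ, ∀ z ∈ Γ, y * z ∈ Γ → ε (y * z) = ε y * ε z := by
    intro y hy z hz hyz
    refine smul_left_injective (Fbar 3) hw₁ne ?_
    show ε (y * z) • w₁ = (ε y * ε z) • w₁
    rw [← hε _ hyz w₁ hw₁, happ, hε z hz w₁ hw₁, map_smul, hε y hy w₁ hw₁, smul_smul, mul_comm]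
  have hmem : ∀ c k : ↥C, ⁅(c : T), (k : T)⁆ ∈ Γ := fun c k => ⟨_, c.2, _, k.2, rfl⟩
  let b : ↥C → ↥C → Fbar 3 := fun c k => ε ⁅(c : T), (k : T)⁆
  have hbl : ∀ c c' k, b (c * c') k = b c k * b c' k := by
    intro c c' k
    have h1 : ⁅((c * c' : ↥C) : T), (k : T)⁆ = ⁅(c : T), (k : T)⁆ * ⁅(c' : T), (k : T)⁆ := by
      have hz := hCC c' c'.2 k k.2
      have hz' := hCC c c.2 k k.2
      calc ⁅((c * c' : ↥C) : T), (k : T)⁆ = (c : T) * ⁅(c' : T), (k : T)⁆ * (c : T)⁻¹ * ⁅(c : T), (k : T)⁆ := by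
            simp only [Subgroup.coe_mul, commutatorElement_def]; group
        _ = ⁅(c' : T), (k : T)⁆ * ⁅(c : T), (k : T)⁆ := by rw [hz.2 c c.2, mul_inv_cancel_right]
        _ = _ := (hz.2 _ hz'.1).symm
    show ε _ = _
    rw [h1, hεmul _ (hmem c k) _ (hmem c' k) (h1 ▸ hmem (c * c') k)]
  have hbr : ∀ c k k', b c (k * k') = b c k * b c k' := by
    intro c k k'
    have h1 : ⁅(c : T), ((k * k' : ↥C) : T)⁆ = ⁅(c : T), (k : T)⁆ * ⁅(c : T), (k' : T)⁆ := by
      have hz := hCC c c.2 k' k'.2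
      calc ⁅(c : T), ((k * k' : ↥C) : T)⁆ = ⁅(c : T), (k : T)⁆ * ((k : T) * ⁅(c : T), (k' : T)⁆ * (k : T)⁻¹) := by
            simp only [Subgroup.coe_mul, commutatorElement_def]; group
        _ = _ := by rw [hz.2 k k.2, mul_inv_cancel_right]
    show ε _ = _
    rw [h1, hεmul _ (hmem c k) _ (hmem c k') (h1 ▸ hmem c (k * k'))]
  have hb1 : ∀ k, b 1 k = 1 := fun k => by
    have h1 := hbl 1 1 k
    rw [mul_one] at h1
    rcases hεv _ (hmem 1 k) with h | h
    · exact h
    · exfalso; rw [show b 1 k = -1 from h, neg_mul_neg, one_mul] at h1; exact hneg h1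
  let M : Subgroup ↥C :=
    { carrier := {c | ∀ k, b c k = 1}
      one_mem' := hb1
      mul_mem' := fun {x y} hx hy k => by rw [hbl, hx k, hy k, one_mul]
      inv_mem' := fun {x} hx k => by
        have h := hbl x⁻¹ x k
        rw [inv_mul_cancel, hb1, hx k, mul_one] at h
        exact h.symm }
  haveI : M.Normal := ⟨fun m hm c k => by
    rw [hbl, hbl, hm k, mul_one, ← hbl, mul_inv_cancel, hb1]⟩
  letI instS : CommGroup (↥C ⧸ M) :=
    { (inferInstance : Group (↥C ⧸ M)) with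
      mul_comm := fun x y => by
        induction x using QuotientGroup.induction_on with | _ u => ?_
        induction y using QuotientGroup.induction_on with | _ v => ?_
        rw [← QuotientGroup.mk_mul, ← QuotientGroup.mk_mul, QuotientGroup.eq]
        intro k
        have e1 : b ((u * v)⁻¹) k * b (u * v) k = 1 := by rw [← hbl, inv_mul_cancel, hb1]
        rw [hbl, hbl v u, mul_comm (b v k), ← hbl u v]
        exact e1 }
  have hexp : ∀ s : ↥C ⧸ M, s * s = 1 := by
    intro s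
    induction s using QuotientGroup.induction_on with | _ u => ?_
    rw [← QuotientGroup.mk_mul, QuotientGroup.eq_one_iff]
    intro k
    rw [hbl]
    rcases hεv _ (hmem u k) with h | h <;> simp [b, h]
  have hbM : ∀ c ∈ M, ∀ k, b k c = 1 := by
    intro c hc k
    have h1 : ⁅(k : T), (c : T)⁆ = ⁅(c : T), (k : T)⁆ := by
      have h2 := hΓ2 _ (hmem c k)
      rw [← commutatorElement_inv (c : T) (k : T)]
      exact inv_eq_of_mul_eq_one_left h2
    show ε _ = 1
    rw [h1]; exact hc k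
  have hbwd : ∀ c c' k k' : ↥C, (c : ↥C ⧸ M) = c' → (k : ↥C ⧸ M) = k' → b c k = b c' k' := by
    intro c c' k k' h1 h2
    have hc := QuotientGroup.eq.1 h1
    have hk := QuotientGroup.eq.1 h2
    rw [show c' = c * (c⁻¹ * c') by group, show k' = k * (k⁻¹ * k') by group, hbl, hc, mul_one, hbr,
      hbM _ hk, mul_one]
  let β : (↥C ⧸ M) → (↥C ⧸ M) → Fbar 3 := fun s t => b s.out t.out
  have hβ : ∀ c k : ↥C, β c k = b c k := fun c k =>
    hbwd _ _ _ _ (QuotientGroup.out_eq' _) (QuotientGroup.out_eq' _)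
  have hMmap : ∀ g : ↥D, M.map (MulAut.conjNormal (g : T) : MulAut ↥C).toMonoidHom = M := by
    have hle : ∀ g : ↥D, M.map (MulAut.conjNormal (g : T) : MulAut ↥C).toMonoidHom ≤ M := by
      rintro g _ ⟨m, hm, rfl⟩ k
      show ε ⁅((MulAut.conjNormal (g : T) m : ↥C) : T), (k : T)⁆ = 1
      have h1 : ((MulAut.conjNormal (g : T) (MulAut.conjNormal (g : T)⁻¹ k) : ↥C) : T) = k := by
        simp [MulAut.conjNormal_apply, mul_assoc]
      rw [← h1, MulAut.conjNormal_apply, MulAut.conjNormal_apply (g : T) (MulAut.conjNormal _ k),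
        ← conjugate_commutatorElement, hDε g g.2 _ (hmem _ _)]
      exact hm _
    intro g
    refine le_antisymm (hle g) fun m hm => ⟨MulAut.conjNormal (g : T)⁻¹ m, ?_, ?_⟩
    · exact hle g⁻¹ ⟨m, hm, rfl⟩
    · apply Subtype.ext; simp [MulAut.conjNormal_apply, mul_assoc]
  let θ : ↥D →* MulAut (↥C ⧸ M) :=
    { toFun := fun g => QuotientGroup.congr M M (MulAut.conjNormal (g : T)) (hMmap g)
      map_one' := by
        ext v; induction v using QuotientGroup.induction_on with
        | H y => simp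
      map_mul' := fun g g' => by
        ext v; induction v using QuotientGroup.induction_on with
        | H y =>
          simp only [Subgroup.coe_mul, map_mul, MulAut.mul_apply]
          rfl }
  have hθ : ∀ (g : ↥D) (c : ↥C), θ g (c : ↥C ⧸ M) = ((MulAut.conjNormal (g : T) c : ↥C) : ↥C ⧸ M) :=
    fun g c => rfl
  -- Theorem B on `W`
  have hfix : ∀ a ∈ A, ∀ Q : Subgroup ↥C, (∀ q ∈ Q, MulAut.conjNormal a q ∈ Q) →
      (∀ q ∈ Q, ∀ q' ∈ Q, b q q' = 1) → ∀ q ∈ Q, ∀ w ∈ W, ρ (a * (q : T)) w = ρ ((q : T) * a) w := by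
    intro a ha Q hQa hQb q hq w hw
    let T₁ : Subgroup T :=
      { carrier := {t | ∀ v, v ∈ W ↔ ρ t v ∈ W}
        one_mem' := fun v => by simp
        mul_mem' := fun {s t} hs ht v => by rw [happ, ← hs, ← ht]
        inv_mem' := fun {s} hs v => by rw [hs (ρ s⁻¹ v), ← happ, mul_inv_cancel, map_one]; simp }
    have hCA : ∀ g, g ∈ C ∨ g ∈ A → g ∈ T₁ := fun g hg v => by
      refine ⟨hWinv g hg v, fun h => ?_⟩
      have := hWinv g⁻¹ (hg.imp inv_mem inv_mem) _ h
      rwa [← happ, inv_mul_cancel, map_one] at this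
    let σ : Representation (Fbar 3) ↥T₁ ↥W :=
      { toFun := fun t => (ρ (t : T)).restrict fun v hv => (t.2 v).1 hv
        map_one' := by ext v : 1; apply Subtype.ext; simp
        map_mul' := fun s t => by ext v : 1; apply Subtype.ext; simp [happ] }
    set Q₁ := (Q.map C.subtype).subgroupOf T₁ with hQ₁
    have hQ₁p : IsPGroup 2 Q₁ := (hCq.to_le (Subgroup.map_subtype_le Q)).comap_subtype
    have hσc : ∀ g h : ↥T₁, Commute (σ g) (σ h) ↔ ∀ v ∈ W, ρ ((g : T) * h) v = ρ ((h : T) * g) v := by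
      intro g h
      constructor
      · intro hc v hv
        have := congrArg Subtype.val (LinearMap.congr_fun hc.eq ⟨v, hv⟩)
        simpa [σ, happ] using this
      · intro hc
        show σ g * σ h = σ h * σ g
        ext v : 1
        apply Subtype.ext
        simpa [σ, happ] using hc v v.2
    by_contra hnc
    rcases CfsgLib.HallHigman.theoremB 3 2 h23.symm σ Q₁ ⟨a, hCA a (Or.inr ha)⟩ 1 2 hQ₁p (by
        rintro g ⟨y, hy, hye⟩
        refine ⟨MulAut.conjNormal a y, hQa y hy, ?_⟩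
        show ((MulAut.conjNormal a y : ↥C) : T) = a * (g : T) * a⁻¹
        rw [MulAut.conjNormal_apply, show (y : T) = g from hye])
      (Subtype.ext (hA3 a ha)) le_rfl
      ⟨⟨q, hCA q (Or.inl q.2)⟩, ⟨q, hq, rfl⟩, fun hc => hnc (by
        have h5 := (hσc _ _).1 hc w hw
        simpa using h5.symm)⟩
      (by
        ext v : 1
        apply Subtype.ext
        have h5 := LinearMap.congr_fun (hquad a ha) v
        simp only [pow_two, Module.End.mul_apply, LinearMap.sub_apply, Module.End.one_apply,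
          LinearMap.zero_apply] at h5
        simpa [σ, pow_two] using h5) with h | ⟨n₀, m, -, -, -, -, -, hNA, -⟩
    · norm_num at h
    · refine hNA ?_
      rintro g ⟨y, hy, hye⟩ g' ⟨y', hy', hye'⟩
      rw [hσc]
      intro v hv
      rw [← show (y : T) = g from hye, ← show (y' : T) = g' from hye',
        show (y : T) * y' = ⁅(y : T), (y' : T)⁆ * ((y' : T) * y) by simp only [commutatorElement_def]; group,
        happ, (hWinv _ (Or.inl (mul_mem y'.2 y.2)) v hv) _ (hmem y y'), show ε ⁅(y : T), (y' : T)⁆ = 1 from hQb y hy y' hy', one_smul]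
  haveI : (A.subgroupOf D).Normal := by
    refine ⟨fun n hn g => ?_⟩
    rw [Subgroup.mem_subgroupOf] at hn ⊢
    exact (Subgroup.mem_normalizer_iff.1 (Subgroup.normalizer_commutator_ge_left D D g.2) _).1 hn
  have hmain := no_derived_action θ hD (F := Fbar 3) (β := β) hneg
    (fun s t r => by
      induction s using QuotientGroup.induction_on with | _ s => ?_
      induction t using QuotientGroup.induction_on with | _ t => ?_
      induction r using QuotientGroup.induction_on with | _ r => ?_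
      rw [← QuotientGroup.mk_mul, hβ, hβ, hβ, hbl])
    (fun s t r => by
      induction s using QuotientGroup.induction_on with | _ s => ?_
      induction t using QuotientGroup.induction_on with | _ t => ?_
      induction r using QuotientGroup.induction_on with | _ r => ?_
      rw [← QuotientGroup.mk_mul, hβ, hβ, hβ, hbr])
    hexp (A := A.subgroupOf D)
    (by
      rw [← Subgroup.map_le_map_iff_of_injective D.subtype_injective, Subgroup.map_subgroupOf_eq_of_le hAD,
        Subgroup.map_subtype_commutator])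
    (fun x hx y hy => Subtype.ext (hA _ hx _ hy).eq) (fun x hx => Subtype.ext (hA3 _ hx))
    (by
      intro g hg t ht ht1
      obtain ⟨s, hs⟩ := ht
      induction t using QuotientGroup.induction_on with | _ c => ?_
      set ga := MulAut.conjNormal (g : T) c with hga
      show β _ (θ g (c : ↥C ⧸ M)) = -1
      rw [hθ, hβ]
      rcases hεv _ (hmem c ga) with h | h
      swap
      · exact h
      exfalso
      -- `c` spans an invariant subgroup commutative on `W`
      set φ : MulAut ↥C := MulAut.conjNormal (g : T)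
      have hφ3 : φ ^ 3 = 1 := by
        show MulAut.conjNormal (g : T) ^ 3 = 1
        rw [← map_pow, show (g : T) ^ 3 = 1 from hA3 _ hg, map_one]
      have hφb : ∀ u v, b (φ u) (φ v) = b u v := fun u v => by
        show ε _ = ε _
        rw [MulAut.conjNormal_apply, MulAut.conjNormal_apply, ← conjugate_commutatorElement,
          hDε g g.2 _ (hmem u v)]
      have hcyc : φ (φ (φ c)) = c := by
        have := MulEquiv.congr_fun hφ3 c
        simpa [pow_succ, MulAut.mul_apply] using this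
      have hbs : ∀ u, b u u = 1 := fun u => by
        show ε _ = 1
        rw [commutatorElement_self, ← commutatorElement_self (1 : T)]
        exact hb1 1
      have hsym : ∀ u v, b u v = 1 → b v u = 1 := fun u v h' => by
        have h1 : ⁅(v : T), (u : T)⁆ = ⁅(u : T), (v : T)⁆ := by
          rw [← commutatorElement_inv (u : T) (v : T)]
          exact inv_eq_of_mul_eq_one_left (hΓ2 _ (hmem u v))
        show ε _ = 1
        rw [h1]; exact h'
      have h01 : b c (φ c) = 1 := h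
      have h12 : b (φ c) (φ (φ c)) = 1 := by rw [hφb]; exact h01
      have h02 : b c (φ (φ c)) = 1 := by
        refine hsym _ _ ?_
        conv_lhs => arg 2; rw [← hcyc]
        rw [hφb]; exact h12
      set G3 : Set ↥C := {c, φ c, φ (φ c)} with hG3
      have hG : ∀ u ∈ G3, ∀ v ∈ G3, b u v = 1 := by
        rintro u (rfl | rfl | rfl) v (rfl | rfl | rfl)
        exacts [hbs _, h01, h02, hsym _ _ h01, hbs _, h12, hsym _ _ h02, hsym _ _ h12, hbs _]
      have hQb : ∀ u ∈ Subgroup.closure G3, ∀ v ∈ Subgroup.closure G3, b u v = 1 := by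
        have h1' : ∀ u ∈ G3, ∀ v ∈ Subgroup.closure G3, b u v = 1 := by
          intro u hu v hv
          induction hv using Subgroup.closure_induction with
          | mem v hv => exact hG u hu v hv
          | one => exact hsym _ _ (hb1 u)
          | mul x y _ _ hx hy => rw [hbr, hx, hy, one_mul]
          | inv x _ hx =>
            have h' := hbr u x⁻¹ x
            rw [inv_mul_cancel, hsym _ _ (hb1 u), hx, mul_one] at h'
            exact h'.symm
        intro u hu v hv
        induction hu using Subgroup.closure_induction with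
        | mem u hu => exact h1' u hu v hv
        | one => exact hb1 v
        | mul x y _ _ hx hy => rw [hbl, hx, hy, one_mul]
        | inv x _ hx =>
          have h' := hbl x⁻¹ x v
          rw [inv_mul_cancel, hb1, hx, mul_one] at h'
          exact h'.symm
      have hQa : ∀ u ∈ Subgroup.closure G3, MulAut.conjNormal (g : T) u ∈ Subgroup.closure G3 := by
        have hle : Subgroup.closure G3 ≤ (Subgroup.closure G3).comap φ.toMonoidHom := by
          rw [Subgroup.closure_le]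
          rintro u (rfl | rfl | rfl)
          · exact Subgroup.subset_closure (by simp [hG3])
          · exact Subgroup.subset_closure (by simp [hG3])
          · show φ (φ (φ _)) ∈ Subgroup.closure G3
            rw [hcyc]; exact Subgroup.subset_closure (by simp [hG3])
        exact fun u hu => hle hu
      have hg' : (g : T) ∈ A := hg
      have hcom' := hfix (g : T) hg' _ hQa hQb c (Subgroup.subset_closure (by simp [hG3]))
      apply ht1
      refine mem_range_moveHom hexp (σ := θ g) ?_ ⟨s, hs⟩ ?_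
      · rw [← map_pow, show g ^ 3 = 1 from Subtype.ext (hA3 _ hg), map_one]
      rw [hθ, QuotientGroup.eq]
      -- `u = (φ c)⁻¹ c` is trivial on `W₀`
      intro k
      show ε ⁅((ga⁻¹ * c : ↥C) : T), (k : T)⁆ = 1
      set u : T := ((ga⁻¹ * c : ↥C) : T) with hudef
      have hu : ∀ v ∈ W, ρ u v = v := by
        intro v hv
        have hu' : u = ((g : T) * (c : T) * (g : T)⁻¹)⁻¹ * c := by
          show ((ga : ↥C) : T)⁻¹ * (c : T) = _
          rw [show ((ga : ↥C) : T) = (g : T) * c * (g : T)⁻¹ from MulAut.conjNormal_apply _ _]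
        have hmem' := hWinv _ (Or.inr (inv_mem hg')) v hv
        have h8 : ρ ((g : T) * c * (g : T)⁻¹) v = ρ (c : T) v := by
          rw [happ, hcom' _ hmem', ← happ, mul_inv_cancel_right]
        rw [hu', happ, ← h8, ← happ, inv_mul_cancel, map_one]
        rfl
      refine smul_left_injective (Fbar 3) hw₁ne ?_
      show ε ⁅u, (k : T)⁆ • w₁ = (1 : Fbar 3) • w₁
      rw [← hε _ (hmem _ k) w₁ hw₁, one_smul, commutatorElement_def, happ, happ, happ]
      have hvW : ∀ v ∈ W, ρ u⁻¹ v = v := fun v hv => by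
        conv_lhs => rw [← hu v hv]
        rw [← happ, inv_mul_cancel, map_one]; rfl
      rw [hvW _ (hWinv _ (Or.inl (inv_mem k.2)) _ (hW₀W hw₁))]
      rw [hu _ (by rw [← happ, mul_inv_cancel, map_one]; exact hW₀W hw₁), ← happ, mul_inv_cancel, map_one]
      rfl)
  -- `θ a₁ = 1` contradicts the choice of `a₁`, `c₁`
  apply hne₁
  have hθ1 := hmain ⟨a₁, hAD ha₁⟩ ha₁
  set φ : MulAut ↥C := MulAut.conjNormal a₁
  have hMb : ∀ q ∈ M, ∀ q' ∈ M, b q q' = 1 := fun q hq q' _ => hq q'
  have hMa : ∀ q ∈ M, φ q ∈ M := fun q hq => by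
    have := hMmap ⟨a₁, hAD ha₁⟩
    exact this.le ⟨q, hq, rfl⟩
  set m : ↥C := ⟨c₁, hc₁⟩⁻¹ * φ ⟨c₁, hc₁⟩ with hm
  have hmM : m ∈ M := by
    have h5 := MulEquiv.congr_fun hθ1 ((⟨c₁, hc₁⟩ : ↥C) : ↥C ⧸ M)
    rw [hθ, MulAut.one_apply, eq_comm, QuotientGroup.eq] at h5
    exact h5
  have hfm := hfix a₁ ha₁ M hMa hMb m hmM
  -- iterate three times
  have e1 : a₁ * c₁ = c₁ * (m : T) * a₁ := by
    simp only [hm, φ, Subgroup.coe_mul, Subgroup.coe_inv, MulAut.conjNormal_apply]; group
  have hmW : ∀ v ∈ W, ρ (m : T) v ∈ W := fun v hv => hWinv _ (Or.inl m.2) v hv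
  have hiter : ∀ i : ℕ, ∀ v ∈ W, ρ (a₁ ^ i * c₁) v = ρ (c₁ * (m : T) ^ i * a₁ ^ i) v := by
    intro i
    induction i with
    | zero => intro v _; simp
    | succ i ih =>
      intro v hv
      have haW : ∀ j : ℕ, ρ (a₁ ^ j) v ∈ W := fun j => hWinv _ (Or.inr (pow_mem ha₁ j)) v hv
      rw [show a₁ ^ (i + 1) * c₁ = a₁ * (a₁ ^ i * c₁) by rw [pow_succ', mul_assoc], happ, ih v hv, ← happ,
        show a₁ * (c₁ * (m : T) ^ i * a₁ ^ i) = (a₁ * c₁) * ((m : T) ^ i * a₁ ^ i) by group, e1]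
      have hmj : ∀ j : ℕ, ∀ w ∈ W, ρ (a₁ * (m : T) ^ j) w = ρ ((m : T) ^ j * a₁) w := by
        intro j
        induction j with
        | zero => intro w _; simp
        | succ j ihj =>
          intro w hw
          rw [pow_succ, ← mul_assoc, happ, ihj _ (hmW w hw), ← happ, mul_assoc, happ, hfm w hw, ← happ, ← mul_assoc]
      rw [show c₁ * (m : T) * a₁ * ((m : T) ^ i * a₁ ^ i) = c₁ * (m : T) * ((a₁ * (m : T) ^ i) * a₁ ^ i) by group,
        happ, happ (a₁ * (m : T) ^ i), hmj i _ (haW i), ← happ, ← happ]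
      congr 2
      rw [pow_succ', pow_succ']; group
  have hm3 : ∀ v ∈ W, ρ ((m : T) ^ 3) v = v := by
    intro v hv
    have h5 := hiter 3 v hv
    rw [hA3 a₁ ha₁, one_mul, mul_one, happ] at h5
    have h6 := congrArg (ρ c₁⁻¹) h5
    rw [← happ, ← happ, inv_mul_cancel, map_one] at h6
    exact h6.symm
  have hm1 : ∀ v ∈ W, ρ (m : T) v = v := by
    intro v hv
    obtain ⟨j, hj⟩ := hCq m
    have hj' : (m : T) ^ 2 ^ j = 1 := congrArg Subtype.val hj
    obtain ⟨k, hk⟩ := exists_pow_eq_self_of_coprime (x := (m : T)) (n := 3)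
      (Nat.Coprime.coprime_dvd_right (orderOf_dvd_of_pow_eq_one hj') (Nat.Coprime.pow_right j (by decide)))
    rw [← hk]
    clear hk
    induction k with
    | zero => simp
    | succ k ihk => rw [pow_succ, happ, hm3 v hv, ihk]
  rw [e1, happ, happ c₁, hm1 _ (hWinv _ (Or.inr ha₁) _ (hW₀W hw₁)), ← happ]

end CfsgLib.PLengthHH
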