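import Cfsg.Agent.Lib.PLengthHH.DerivedBound

/-! The `p`-length is at most the derived length of a Sylow `p`-subgroup. -/

set_option autoImplicit false

open Cfsg

namespace CfsgLib.PLengthHH

open scoped commutatorElement

universe u

variable {p : ℕ} [hp : Fact p.Prime]

/-- A derived subgroup acting quadratically is trivial. -/
theorem derived_quad_eq_one {H : Type u} [Group H] [Finite H] {d : ℕ}
    {ρ : H →* Module.End (Fbar p) (Fin d → Fbar p)} (hsol : IsPSolvable p H) (hOp : pCore p H = ⊥)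
    (hρ : Function.Injective ρ) (hp2 : p ≠ 2) {D : Subgroup H} (hD : IsPGroup p D)
    (hA : ∀ a ∈ ⁅D, D⁆, ∀ b ∈ ⁅D, D⁆, Commute a b) (hAp : ∀ a ∈ ⁅D, D⁆, a ^ p = 1)
    (hquad : ∀ a ∈ ⁅D, D⁆, (ρ a - 1) ^ 2 = 0)
    (hcube : ∀ a ∈ ⁅D, D⁆, ∀ x ∈ D, (ρ a - 1) * ((ρ x - 1) * (ρ x - 1)) = 0) : ⁅D, D⁆ = ⊥ := by
  have h3p : 3 ≤ p := by have := hp.out.two_le; omega
  rw [eq_bot_iff]
  intro a ha
  rw [Subgroup.mem_bot]
  rcases eq_or_lt_of_le h3p with h3 | h5
  · subst h3
    set O := pPrimeCore 3 H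
    haveI hOn : O.Normal := CfsgLib.Solvable.pPrimeCore_normal 3 H
    have hOcop : (Nat.card O).Coprime 3 := CfsgLib.Solvable.pPrimeCore_card_coprime 3 H
    suffices h : O ≤ Subgroup.centralizer ({a} : Set H) by
      have hc : a ∈ O := by
        refine CfsgLib.PLocal.centralizer_pPrimeCore_le_self hsol hOp ?_
        rw [Subgroup.mem_centralizer_iff]
        exact fun g hg => Subgroup.mem_centralizer_singleton_iff.1 (h hg)
      exact IsPEl.eq_one ⟨1, by rw [pow_one]; exact hAp a ha⟩
        (hOcop.coprime_dvd_left (Subgroup.orderOf_dvd_natCard _ hc))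
    have hcop : (Nat.card D).Coprime (Nat.card O) := by
      obtain ⟨i, hi⟩ := IsPGroup.iff_card.1 hD
      rw [hi]
      exact hOcop.symm.pow_left i
    set C := (Subgroup.centralizer ({a} : Set H)).subgroupOf O
    rw [← Subgroup.subgroupOf_eq_top, ← Subgroup.index_eq_one]
    by_contra hne
    obtain ⟨q, hq, hqd⟩ := Nat.exists_prime_and_dvd hne
    haveI := Fact.mk hq
    have hqp : q ≠ 3 := by
      rintro rfl
      exact (Nat.Prime.coprime_iff_not_dvd hq).1 hOcop.symm (hqd.trans (Subgroup.index_dvd_card _))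
    obtain ⟨S, hS⟩ := CfsgLib.Solvable.exists_invariant_sylow (A := D) (K := O)
      Subgroup.le_normalizer_of_normal hcop (Or.inl (by haveI := hD.isNilpotent; infer_instance)) q
    set L := (S : Subgroup O).map O.subtype
    have hL : IsPGroup q L := S.isPGroup'.map _
    have hAD : ⁅D, D⁆ ≤ D := by
      rw [Subgroup.commutator_le]
      intro x hx y hy
      rw [commutatorElement_def]
      exact mul_mem (mul_mem (mul_mem hx hy) (inv_mem hx)) (inv_mem hy)
    have hcomm : L ≤ Subgroup.centralizer ({a} : Set H) := by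
      intro g hg
      rw [Subgroup.mem_centralizer_singleton_iff]
      by_cases hq2 : q = 2
      · subst hq2
        set T := Subgroup.normalizer (L : Set H)
        haveI : (L.subgroupOf T).Normal := Subgroup.normal_in_normalizer
        have hmap : (⁅D.subgroupOf T, D.subgroupOf T⁆ : Subgroup T).map T.subtype = ⁅D, D⁆ := by
          rw [Subgroup.map_commutator, Subgroup.map_subgroupOf_eq_of_le hS]
        have h := derived_le_centralizer (ρ := ρ.comp T.subtype) (hρ.comp T.subtype_injective)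
          (L := L.subgroupOf T) hL.comap_subtype (D := D.subgroupOf T) hD.comap_subtype
          (fun x hx y hy => Subtype.ext (hA _ (hmap ▸ Subgroup.mem_map_of_mem T.subtype hx) _
            (hmap ▸ Subgroup.mem_map_of_mem T.subtype hy)).eq)
          (fun x hx => Subtype.ext (hAp _ (hmap ▸ Subgroup.mem_map_of_mem T.subtype hx)))
          (fun x hx => hquad _ (hmap ▸ Subgroup.mem_map_of_mem T.subtype hx))
          (fun x hx y hy => hcube _ (hmap ▸ Subgroup.mem_map_of_mem T.subtype hx) _ hy)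
        obtain ⟨a', ha', rfl⟩ := (hmap.symm ▸ ha : a ∈ (⁅D.subgroupOf T, D.subgroupOf T⁆ : Subgroup T).map T.subtype)
        exact congrArg Subtype.val (Subgroup.mem_centralizer_iff.1 (h ha') ⟨g, Subgroup.le_normalizer hg⟩ hg)
      · have := commute_of_degree (p := 3) (n := 1) (r := 2) hρ hp2 hqp hL (Or.inl hq2) (x := a)
          (fun y hy => (Subgroup.mem_normalizer_iff.1 (hS (hAD ha)) y).1 hy) le_rfl
          (by rw [pow_one]; exact hAp a ha) (hquad a ha) (by norm_num) hg
        simpa using this.eq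
    exact S.not_dvd_index (hqd.trans (Subgroup.index_dvd_of_le fun s hs => hcomm ⟨s, hs, rfl⟩))
  · have h := pow_eq_one_of_small_degree hsol hOp hρ hp2 (x := a) (n := 1) le_rfl
      (by rw [pow_one]; exact hAp a ha) (hquad a ha) (by
        have hne4 : p ≠ 4 := fun h4 => by rw [h4] at hp; exact absurd hp.out (by decide)
        rw [pow_one, Nat.sub_self, pow_zero]; omega)
    simpa using h

theorem pLengthLE_derived_aux (p : ℕ) [hp : Fact p.Prime] (hp2 : p ≠ 2) :
    ∀ (d : ℕ) (G : Type u) [Group G] [Finite G], IsPSolvable p G →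
      (∀ P : Sylow p G, derivedSeries ↥(P : Subgroup G) d = ⊥) → PLengthLE p d G := by
  intro d
  induction d with
  | zero =>
    intro G _ _ _ hd
    obtain ⟨P⟩ : Nonempty (Sylow p G) := inferInstance
    refine CfsgLib.FGS68.pLengthLE_zero_of_not_dvd fun hdvd => P.ne_bot_of_dvd_card hdvd ?_
    have h : (⊤ : Subgroup ↥(P : Subgroup G)) = ⊥ := hd P
    rw [eq_bot_iff]
    intro x hx
    have hx' : (⟨x, hx⟩ : (P : Subgroup G)) ∈ (⊥ : Subgroup _) := h ▸ Subgroup.mem_top _
    exact Subgroup.mem_bot.2 (congrArg Subtype.val (Subgroup.mem_bot.1 hx'))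
  | succ d ih =>
    intro G _ _ hG hd
    obtain ⟨D⟩ := exists_stepData (p := p) hG
    refine D.pLengthLE_succ (ih D.H D.solH fun T => ?_)
    obtain ⟨S₀, rfl⟩ := Sylow.mapSurjective_surjective D.π_surj p T
    obtain ⟨S, rfl⟩ := Sylow.mapSurjective_surjective D.toK_surj p S₀
    set P : Sylow p D.K := S.mapSurjective D.toK_surj with hP
    have hdP : derivedSeries ↥(P : Subgroup D.K) (d + 1) = ⊥ := by
      have h := map_derivedSeries_eq (D.toK.subgroupMap_surjective (S : Subgroup G)) (d + 1)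
      rw [hd S, Subgroup.map_bot] at h
      exact h.symm
    set E : ℕ → Subgroup D.K := fun j => (derivedSeries ↥(P : Subgroup D.K) j).map (P : Subgroup D.K).subtype
    have hEsucc : ∀ j, E (j + 1) = ⁅E j, E j⁆ := fun j => by
      show (derivedSeries ↥(P : Subgroup D.K) (j + 1)).map _ = _
      rw [derivedSeries_succ, Subgroup.map_commutator]
    have hEle : ∀ j, E j ≤ (P : Subgroup D.K) := fun j => Subgroup.map_subtype_le _
    have hEnorm : ∀ j, ∀ g ∈ (P : Subgroup D.K), ∀ e ∈ E j, g * e * g⁻¹ ∈ E j := by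
      rintro j g hg _ ⟨e, he, rfl⟩
      exact ⟨⟨g, hg⟩ * e * ⟨g, hg⟩⁻¹, (derivedSeries_normal _ j).conj_mem e he _, rfl⟩
    have hEcomm : ∀ a ∈ E d, ∀ b ∈ E d, Commute a b := by
      intro a ha b hb
      have h1 : ⁅a, b⁆ ∈ E (d + 1) := hEsucc d ▸ Subgroup.commutator_mem_commutator ha hb
      change ⁅a, b⁆ ∈ (derivedSeries ↥(P : Subgroup D.K) (d + 1)).map _ at h1
      rw [hdP, Subgroup.map_bot, Subgroup.mem_bot] at h1
      exact commutatorElement_eq_one_iff_commute.1 h1
    haveI hUn : (pCore p D.K).Normal := CfsgLib.Solvable.pCore_normal p D.K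
    have hUP : pCore p D.K ≤ (P : Subgroup D.K) := CfsgLib.Solvable.pCore_le_sylow P
    have hcu : ∀ (g : D.K) (v : pCore p D.K), ∃ c : pCore p D.K, (c : D.K) = ⁅g, (v : D.K)⁆ := fun g v =>
      ⟨⟨_, by rw [commutatorElement_def]; exact mul_mem (hUn.conj_mem _ v.2 g) (inv_mem v.2)⟩, rfl⟩
    have hcE : ∀ j, ∀ e ∈ E j, ∀ g ∈ (P : Subgroup D.K), ⁅e, g⁆ ∈ E j := fun j e he g hg => by
      rw [commutatorElement_def, mul_assoc e g, mul_assoc e]
      exact mul_mem he (hEnorm j g hg _ (inv_mem he))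
    suffices hAU : E d ≤ pCore p D.K by
      have h := map_derivedSeries_eq (D.π.subgroupMap_surjective (P : Subgroup D.K)) d
      refine h.symm.trans ((Subgroup.map_eq_bot_iff _).mpr ?_)
      intro e he
      rw [MonoidHom.mem_ker]
      apply Subtype.ext
      show D.π (e : D.K) = 1
      rw [← MonoidHom.mem_ker, D.π_ker]
      exact hAU ⟨e, he, rfl⟩
    -- quadratic action
    have hquad : ∀ a ∈ E d, (D.R.ρ a - 1) ^ 2 = 0 := by
      intro a ha
      refine D.R.span _ fun v => ?_
      obtain ⟨c, hc⟩ := hcu a v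
      obtain ⟨c', hc'⟩ := hcu a c
      rw [pow_two, Module.End.mul_apply, D.R.sub_one_apply a v c hc, D.R.sub_one_apply a c c' hc']
      have h1 : (c : D.K) ∈ E d := hc ▸ hcE d a ha _ (hUP v.2)
      rw [show c' = 1 from Subtype.ext (hc'.trans (commutatorElement_eq_one_iff_commute.2 (hEcomm a ha _ h1))),
        D.R.map_one]
    rcases d with _ | d
    · intro a ha
      refine (D.R.ker a).1 (sub_eq_zero.1 (D.R.span _ fun v => ?_))
      obtain ⟨c, hc⟩ := hcu a v
      have hv : (v : D.K) ∈ E 0 := ⟨⟨v, hUP v.2⟩, Subgroup.mem_top _, rfl⟩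
      rw [D.R.sub_one_apply a v c hc,
        show c = 1 from Subtype.ext (hc.trans (commutatorElement_eq_one_iff_commute.2 (hEcomm a ha _ hv))),
        D.R.map_one]
    · set Dd := (E d).map D.π with hDd
      have hA' : ∀ y ∈ ⁅Dd, Dd⁆, ∃ a ∈ E (d + 1), D.π a = y := by
        intro y hy
        rw [hDd, ← Subgroup.map_commutator, ← hEsucc] at hy
        exact hy
      have h := derived_quad_eq_one D.solH D.hOp D.ρ_inj hp2 (D := Dd) ((P.isPGroup'.to_le (hEle d)).map D.π)
        (fun y hy z hz => by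
          obtain ⟨a, ha, rfl⟩ := hA' y hy
          obtain ⟨b, hb, rfl⟩ := hA' z hz
          exact (hEcomm a ha b hb).map D.π)
        (fun y hy => by
          obtain ⟨a, ha, rfl⟩ := hA' y hy
          rw [← map_pow, ← MonoidHom.mem_ker, D.π_ker, ← D.R.ker, map_pow, ← sub_eq_zero]
          have hch := CfsgLib.HallHigman.sub_one_pow_char (K := Fbar p) p 1 (D.R.ρ a)
          rw [pow_one] at hch
          rw [← hch]
          exact pow_eq_zero_of_le hp.out.two_le (hquad a ha))
        (fun y hy => by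
          obtain ⟨a, ha, rfl⟩ := hA' y hy
          rw [D.ρ_π]; exact hquad a ha)
        (fun y hy z hz => by
          obtain ⟨a, ha, rfl⟩ := hA' y hy
          obtain ⟨x, hx, rfl⟩ := hz
          rw [D.ρ_π, D.ρ_π]
          refine D.R.span _ fun v => ?_
          obtain ⟨c, hc⟩ := hcu x v
          obtain ⟨c', hc'⟩ := hcu x c
          obtain ⟨c'', hc''⟩ := hcu a c'
          rw [Module.End.mul_apply, Module.End.mul_apply, D.R.sub_one_apply x v c hc,
            D.R.sub_one_apply x c c' hc', D.R.sub_one_apply a c' c'' hc'']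
          have h1 : (c : D.K) ∈ E d := hc ▸ hcE d x hx _ (hUP v.2)
          have h2 : (c' : D.K) ∈ E (d + 1) := hc' ▸ (hEsucc d).symm ▸ Subgroup.commutator_mem_commutator hx h1
          rw [show c'' = 1 from Subtype.ext (hc''.trans (commutatorElement_eq_one_iff_commute.2 (hEcomm a ha _ h2))),
            D.R.map_one])
      intro a ha
      rw [← D.π_ker, MonoidHom.mem_ker, ← Subgroup.mem_bot, ← h, hDd, ← Subgroup.map_commutator, ← hEsucc]
      exact Subgroup.mem_map_of_mem D.π ha

end CfsgLib.PLengthHH
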