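import Cfsg.Agent.Lib.PLengthHH.Step
import Cfsg.Agent.Lib.PLengthHH.Commute

/-! The bound `2e` on the `p`-length. -/

set_option autoImplicit false

open Cfsg

namespace CfsgLib.PLengthHH

open scoped commutatorElement

universe u

variable {p : ℕ} [hp : Fact p.Prime]

/-- In a faithful representation with trivial `p`-core, top powers of `p`-elements of small degree
taken in one `p`-subgroup commute. -/
theorem commute_top_powers {H : Type u} [Group H] [Finite H] {d : ℕ}
    {ρ : H →* Module.End (Fbar p) (Fin d → Fbar p)} (hsol : IsPSolvable p H) (hOp : pCore p H = ⊥)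
    (hρ : Function.Injective ρ) (hp2 : p ≠ 2) {e : ℕ}
    (hdeg : ∀ x : H, IsPEl p x → x ^ p ^ (e + 1) = 1 ∧ (ρ x - 1) ^ (p ^ (e + 1) - 1) = 0)
    {P : Subgroup H} (hP : IsPGroup p P) {x x' : H} (hx : x ∈ P) (hx' : x' ∈ P) :
    Commute (x ^ p ^ e) (x' ^ p ^ e) := by
  have hppos : 0 < p ^ (e + 1) := pow_pos hp.out.pos _
  set y := x ^ p ^ e
  set y' := x' ^ p ^ e
  set O := pPrimeCore p H
  haveI hOn : O.Normal := CfsgLib.Solvable.pPrimeCore_normal p H
  have hOcop : (Nat.card O).Coprime p := CfsgLib.Solvable.pPrimeCore_card_coprime p H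
  suffices h : O ≤ Subgroup.centralizer ({⁅y, y'⁆} : Set H) by
    have hc : ⁅y, y'⁆ ∈ O := by
      refine CfsgLib.PLocal.centralizer_pPrimeCore_le_self hsol hOp ?_
      rw [Subgroup.mem_centralizer_iff]
      exact fun g hg => Subgroup.mem_centralizer_singleton_iff.1 (h hg)
    refine commutatorElement_eq_one_iff_commute.1
      (IsPEl.eq_one (IsPEl.of_isPGroup hP ?_) (hOcop.coprime_dvd_left (Subgroup.orderOf_dvd_natCard _ hc)))
    rw [commutatorElement_def]
    exact mul_mem (mul_mem (mul_mem (pow_mem hx _) (pow_mem hx' _)) (inv_mem (pow_mem hx _)))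
      (inv_mem (pow_mem hx' _))
  have hcop : (Nat.card P).Coprime (Nat.card O) := by
    obtain ⟨i, hi⟩ := IsPGroup.iff_card.1 hP
    rw [hi]
    exact hOcop.symm.pow_left i
  set C := (Subgroup.centralizer ({⁅y, y'⁆} : Set H)).subgroupOf O
  rw [← Subgroup.subgroupOf_eq_top, ← Subgroup.index_eq_one]
  by_contra hne
  obtain ⟨q, hq, hqd⟩ := Nat.exists_prime_and_dvd hne
  haveI := Fact.mk hq
  have hqp : q ≠ p := by
    rintro rfl
    exact (Nat.Prime.coprime_iff_not_dvd hq).1 hOcop.symm (hqd.trans (Subgroup.index_dvd_card _))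
  obtain ⟨S, hS⟩ := CfsgLib.Solvable.exists_invariant_sylow (A := P) (K := O)
    Subgroup.le_normalizer_of_normal hcop (Or.inl (by haveI := hP.isNilpotent; infer_instance)) q
  set L := (S : Subgroup O).map O.subtype
  have hL : IsPGroup q L := S.isPGroup'.map _
  have hinv : ∀ z ∈ P, ∀ g ∈ L, z * g * z⁻¹ ∈ L := fun z hz g hg =>
    (Subgroup.mem_normalizer_iff.1 (hS hz) g).1 hg
  have hcomm : L ≤ Subgroup.centralizer ({⁅y, y'⁆} : Set H) := by
    intro g hg
    rw [Subgroup.mem_centralizer_singleton_iff]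
    by_cases hq2 : q = 2
    · -- inside the normalizer of `L`
      set T := Subgroup.normalizer (L : Set H)
      haveI : (L.subgroupOf T).Normal := Subgroup.normal_in_normalizer
      have hsmall : ∀ z, ∀ hz : z ∈ P,
          IsSmall p (P.subgroupOf T) (L.subgroupOf T) ((⟨z, hS hz⟩ : T) ^ p ^ e) := by
        intro z hz
        refine ⟨⟨z, hS hz⟩, Subgroup.mem_subgroupOf.2 hz, e, Subtype.ext ((hdeg z (IsPEl.of_isPGroup hP hz)).1),
          rfl, fun D hDL hDab hDz => ?_⟩
        rw [Subgroup.mem_centralizer_iff]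
        intro a ha
        apply Subtype.ext
        have hD' : D.map T.subtype ≤ L := by
          rintro _ ⟨b, hb, rfl⟩
          exact hDL hb
        have hr := hdeg z (IsPEl.of_isPGroup hP hz)
        have h := commute_of_degree (n := e + 1) hρ hp2 hqp (hL.to_le hD') (Or.inr (by
            rintro _ ⟨b, hb, rfl⟩ _ ⟨b', hb', rfl⟩
            exact congrArg Subtype.val (hDab b hb b' hb').eq))
          (x := z) (by
            rintro _ ⟨b, hb, rfl⟩
            exact ⟨_, hDz b hb, rfl⟩)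
          (by omega) hr.1 hr.2 (by omega) (Subgroup.mem_map_of_mem T.subtype ha)
        simpa using h.eq
      have h := commute_small (L := L.subgroupOf T) hqp (hL.comap_subtype (K := T)) hp2 (hP.comap_subtype (K := T))
        (hsmall x hx) (hsmall x' hx')
      have h2 := congrArg Subtype.val (Subgroup.mem_centralizer_iff.1 h ⟨g, Subgroup.le_normalizer hg⟩ hg)
      simpa [y, y', commutatorElement_def] using h2
    · have hz : ∀ z ∈ P, Commute g (z ^ p ^ e) := fun z hz => by
        have hr := hdeg z (IsPEl.of_isPGroup hP hz)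
        have := commute_of_degree (n := e + 1) hρ hp2 hqp hL (Or.inl hq2) (hinv z hz) (by omega) hr.1 hr.2
          (by omega) hg
        simpa using this
      have h1 := hz x hx
      have h2 := hz x' hx'
      exact (((h1.mul_right h2).mul_right h1.inv_right).mul_right h2.inv_right).eq
  exact S.not_dvd_index (hqd.trans (Subgroup.index_dvd_of_le fun s hs => hcomm ⟨s, hs, rfl⟩))

theorem pLengthLE_two_mul_aux (p : ℕ) [hp : Fact p.Prime] (hp2 : p ≠ 2) :
    ∀ (e : ℕ) (G : Type u) [Group G] [Finite G], IsPSolvable p G → CfsgLib.FGS68.ExpLE p e G →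
      PLengthLE p (2 * e) G := by
  intro e
  induction e with
  | zero =>
    intro G _ _ _ hexp
    exact CfsgLib.FGS68.pLengthLE_zero_of_not_dvd (CfsgLib.FGS68.not_dvd_card_of_expLE_zero hexp)
  | succ e ih =>
    intro G _ _ hG hexp
    obtain ⟨D⟩ := exists_stepData (p := p) hG
    have hdeg : ∀ x : D.H, IsPEl p x → x ^ p ^ (e + 1) = 1 ∧ (D.ρ x - 1) ^ (p ^ (e + 1) - 1) = 0 :=
      fun x hx => ⟨D.expH hexp x hx, D.degree hexp hx⟩
    obtain ⟨D₂⟩ := exists_stepData (p := p) D.solH
    rw [show 2 * (e + 1) = 2 * e + 1 + 1 by ring]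
    refine D.pLengthLE_succ (D₂.pLengthLE_succ (ih D₂.H D₂.solH fun k₂ hk₂ => ?_))
    obtain ⟨k, hk, rfl⟩ := CfsgLib.FGS68.exists_pElement_lift D₂.π D₂.π_surj hk₂
    -- degree of `k`
    have hsmall : (D₂.R.ρ k - 1) ^ (2 * p ^ e - 1) = 0 := by
      refine D₂.R.span _ fun v => ?_
      haveI := CfsgLib.Solvable.pCore_normal p D₂.K
      have hsup : IsPGroup p ↥(pCore p D₂.K ⊔ Subgroup.zpowers k) := by
        refine IsPGroup.to_sup_of_normal_left (CfsgLib.Solvable.pCore_isPGroup p D₂.K) ?_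
        obtain ⟨i, hi⟩ := hk
        rintro ⟨_, j, rfl⟩
        refine ⟨i, Subtype.ext ?_⟩
        show (k ^ j) ^ p ^ i = 1
        rw [← zpow_natCast, ← zpow_mul, mul_comm, zpow_mul, zpow_natCast, hi, one_zpow]
      obtain ⟨P₂, hP₂⟩ := hsup.exists_le_sylow
      obtain ⟨P, rfl⟩ := Sylow.mapSurjective_surjective D₂.toK_surj p P₂
      rw [Sylow.coe_mapSurjective] at hP₂
      obtain ⟨x, hx, hxk⟩ := hP₂ (Subgroup.mem_sup_right (Subgroup.mem_zpowers k))
      obtain ⟨u, hu, huv⟩ := hP₂ (Subgroup.mem_sup_left v.2)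
      have hc := (commute_top_powers D.solH D.hOp D.ρ_inj hp2 hdeg P.isPGroup' hx (mul_mem hu hx)).map D₂.toK
      rw [map_pow, map_pow, map_mul, hxk, huv] at hc
      obtain ⟨w, hw, hsum⟩ := D₂.R.geom_sum k v (p ^ e)
      have hfix : k ^ p ^ e * (w : D₂.K) * (k ^ p ^ e)⁻¹ = w := by
        rw [hw]
        calc k ^ p ^ e * (((v : D₂.K) * k) ^ p ^ e * (k ^ p ^ e)⁻¹) * (k ^ p ^ e)⁻¹
            = (k ^ p ^ e * ((v : D₂.K) * k) ^ p ^ e) * (k ^ p ^ e)⁻¹ * (k ^ p ^ e)⁻¹ := by group
          _ = _ := by rw [hc.eq]; group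
      have h3 : ((D₂.R.ρ k - 1) ^ p ^ e) (D₂.R.φ w) = 0 := by
        rw [CfsgLib.HallHigman.sub_one_pow_char (K := Fbar p) p e, LinearMap.sub_apply, Module.End.one_apply,
          ← map_pow, D₂.R.conj (k ^ p ^ e) w w hfix.symm, sub_self]
      rw [← hsum, ← CfsgLib.HallHigman.sub_one_pow_pred (K := Fbar p), ← Module.End.mul_apply, ← pow_add] at h3
      rwa [show p ^ e + (p ^ e - 1) = 2 * p ^ e - 1 by have := pow_pos hp.out.pos e; omega] at h3
    have h := pow_eq_one_of_small_degree D₂.solH D₂.hOp D₂.ρ_inj hp2 (n := e + 1) (by omega)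
      (D₂.expH (D.expH hexp) (D₂.π k) (IsPEl.map D₂.π hk)) (r := 2 * p ^ e - 1)
      (by rw [D₂.ρ_π]; exact hsmall) (by
        have h3 : 3 ≤ p := by have := hp.out.two_le; omega
        have hpe := pow_pos hp.out.pos e
        have h4 : 3 * p ^ e ≤ p * p ^ e := Nat.mul_le_mul_right _ h3
        rw [Nat.add_sub_cancel, pow_succ, mul_comm (p ^ e) p]
        omega)
    simpa using h

end CfsgLib.PLengthHH
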