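import Cfsg.Agent.Lib.LocalEven.Involves
import Cfsg.Agent.Lib.HallHigman.TheoremB
import Mathlib.GroupTheory.SemidirectProduct

/-! A section isomorphic to the wreath product of two groups of order `p`. -/

set_option autoImplicit false

open Cfsg

namespace CfsgLib.PLengthHH

open scoped commutatorElement

universe u

variable {p : ℕ} [hp : Fact p.Prime]

/-- The regular shift on the functions on `ZMod p`. -/
def shiftAut (p : ℕ) : Multiplicative (ZMod p) →* MulAut (Multiplicative (ZMod p → ZMod p)) where
  toFun t := AddEquiv.toMultiplicative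
    { toFun := fun a j => a (j - t.toAdd)
      invFun := fun a j => a (j + t.toAdd)
      left_inv := fun a => by funext j; simp
      right_inv := fun a => by funext j; simp
      map_add' := fun _ _ => rfl }
  map_one' := by
    refine MulEquiv.ext fun a => Multiplicative.toAdd.injective (funext fun j => ?_)
    show a.toAdd (j - 0) = a.toAdd j
    rw [sub_zero]
  map_mul' s t := by
    refine MulEquiv.ext fun a => Multiplicative.toAdd.injective (funext fun j => ?_)
    show a.toAdd (j - (s.toAdd + t.toAdd)) = a.toAdd (j - s.toAdd - t.toAdd)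
    rw [sub_sub]

/-- `C_p ≀ C_p`. -/
abbrev WreathModel (p : ℕ) : Type :=
  Multiplicative (ZMod p → ZMod p) ⋊[shiftAut p] Multiplicative (ZMod p)

theorem shiftAut_apply (t : Multiplicative (ZMod p)) (a : Multiplicative (ZMod p → ZMod p)) (j : ZMod p) :
    (shiftAut p t a).toAdd j = a.toAdd (j - t.toAdd) := rfl

instance finite_wreathModel : Finite (WreathModel p) :=
  Finite.of_equiv _ SemidirectProduct.equivProd.symm

theorem wreathModel_spec :
    ∃ (B : Subgroup (WreathModel p)) (t : WreathModel p), B.Normal ∧ IsMulCommutative B ∧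
      (∀ b ∈ B, b ^ p = 1) ∧ Nat.card B = p ^ p ∧ orderOf t = p ∧ t ∉ B ∧
      Nat.card (WreathModel p) = p ^ (p + 1) ∧
      Nat.card ↥(B ⊓ Subgroup.centralizer ({t} : Set (WreathModel p))) = p := by
  set t : WreathModel p := SemidirectProduct.inr (Multiplicative.ofAdd (1 : ZMod p)) with ht
  have hA : Nat.card (Multiplicative (ZMod p → ZMod p)) = p ^ p := by
    rw [Nat.card_congr Multiplicative.toAdd, Nat.card_fun, Nat.card_zmod]
  have hT : Nat.card (Multiplicative (ZMod p)) = p := by
    rw [Nat.card_congr Multiplicative.toAdd, Nat.card_zmod]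
  have hrange : (SemidirectProduct.inl : Multiplicative (ZMod p → ZMod p) →* WreathModel p).range =
      (SemidirectProduct.rightHom : WreathModel p →* _).ker := SemidirectProduct.range_inl_eq_ker_rightHom
  refine ⟨(SemidirectProduct.inl).range, t, by rw [hrange]; infer_instance, ?_, ?_, ?_, ?_, ?_, ?_, ?_⟩
  · refine ⟨⟨fun a b => Subtype.ext ?_⟩⟩
    obtain ⟨_, a, rfl⟩ := a
    obtain ⟨_, b, rfl⟩ := b
    show SemidirectProduct.inl a * SemidirectProduct.inl b = SemidirectProduct.inl b * SemidirectProduct.inl a
    rw [← map_mul, mul_comm, map_mul]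
  · rintro _ ⟨a, rfl⟩
    rw [← map_pow, show a ^ p = 1 from Multiplicative.toAdd.injective (funext fun j => by simp), map_one]
  · rw [← hA]
    exact (Nat.card_congr (MonoidHom.ofInjective SemidirectProduct.inl_injective).toEquiv).symm
  · rw [ht, orderOf_injective _ SemidirectProduct.inr_injective]
    exact orderOf_eq_prime (Multiplicative.toAdd.injective (by simp))
      (fun h => one_ne_zero (α := ZMod p) (congrArg Multiplicative.toAdd h))
  · rintro ⟨a, ha⟩
    have := congrArg SemidirectProduct.right ha
    rw [ht, SemidirectProduct.right_inl, SemidirectProduct.right_inr] at this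
    exact one_ne_zero (α := ZMod p) (congrArg Multiplicative.toAdd this).symm
  · rw [Nat.card_congr SemidirectProduct.equivProd, Nat.card_prod, hA, hT, pow_succ]
  · let cst : Multiplicative (ZMod p) →* Multiplicative (ZMod p → ZMod p) :=
      AddMonoidHom.toMultiplicative (Pi.constAddMonoidHom (ZMod p) (ZMod p))
    have hinj : Function.Injective
        ((SemidirectProduct.inl : _ →* WreathModel p).comp cst) :=
      SemidirectProduct.inl_injective.comp fun a b h =>
        Multiplicative.toAdd.injective (congrFun (congrArg Multiplicative.toAdd h) 0)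
    have he : (SemidirectProduct.inl : Multiplicative (ZMod p → ZMod p) →* WreathModel p).range ⊓
        Subgroup.centralizer ({t} : Set (WreathModel p)) = ((SemidirectProduct.inl).comp cst).range := by
      have key : ∀ a : Multiplicative (ZMod p → ZMod p), (SemidirectProduct.inl a : WreathModel p) ∈
          Subgroup.centralizer ({t} : Set (WreathModel p)) ↔ shiftAut p (Multiplicative.ofAdd 1) a = a := by
        intro a
        rw [Subgroup.mem_centralizer_singleton_iff]
        have hc : t * SemidirectProduct.inl a =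
            SemidirectProduct.inl (shiftAut p (Multiplicative.ofAdd 1) a) * t := by
          rw [SemidirectProduct.inl_aut, ht, map_inv]; group
        constructor
        · intro h
          rw [hc] at h
          exact SemidirectProduct.inl_injective (mul_right_cancel h).symm
        · intro h
          rw [hc, h]
      refine le_antisymm ?_ ?_
      · rintro _ ⟨⟨a, rfl⟩, ha⟩
        have h := (key a).1 ha
        refine ⟨Multiplicative.ofAdd (a.toAdd 0), ?_⟩
        show SemidirectProduct.inl (cst _) = _
        congr 1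
        refine Multiplicative.toAdd.injective (funext fun j => ?_)
        have hn : ∀ n : ℕ, a.toAdd (n : ZMod p) = a.toAdd 0 := by
          intro n
          induction n with
          | zero => rw [Nat.cast_zero]
          | succ n ih =>
            have := congrFun (congrArg Multiplicative.toAdd h) ((n + 1 : ℕ) : ZMod p)
            rw [shiftAut_apply] at this
            rw [← this, ← ih]
            congr 1
            simp
        show a.toAdd 0 = a.toAdd j
        rw [← ZMod.natCast_zmod_val j, hn]
      · rintro _ ⟨s, rfl⟩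
        exact ⟨⟨_, rfl⟩, (key _).2 rfl⟩
    rw [he, ← Nat.card_congr (MonoidHom.ofInjective hinj).toEquiv, hT]

theorem prod_range_eq_prod_zmod {M : Type*} [CommMonoid M] (g : ℕ → M) :
    ∏ i ∈ Finset.range p, g i = ∏ j : ZMod p, g j.val :=
  Finset.prod_bij' (fun i _ => (i : ZMod p)) (fun j _ => j.val) (fun _ _ => Finset.mem_univ _)
    (fun j _ => Finset.mem_range.2 (ZMod.val_lt j))
    (fun i hi => ZMod.val_natCast_of_lt (Finset.mem_range.1 hi)) (fun j _ => ZMod.natCast_zmod_val j)
    (fun i hi => by rw [ZMod.val_natCast_of_lt (Finset.mem_range.1 hi)])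

/-- A point with a non-trivial norm under an element whose `p`-th power is in the abelian normal
subgroup gives a wreath product section. -/
theorem involves_wreathModel {R : Type u} [Group R] [Finite R] (V : Subgroup R) [V.Normal]
    (hV : IsElementaryAbelian p V) {h : R} (hgen : V ⊔ Subgroup.zpowers h = ⊤) (hhp : h ^ p ∈ V)
    {v : R} (hv : v ∈ V) (hs : (v * h) ^ p * (h ^ p)⁻¹ ≠ 1) :
    Involves (WreathModel p) R := by
  classical
  letI instV : CommGroup ↥V :=
    { (inferInstance : Group ↥V) with mul_comm := fun a b => hV.1.is_comm.comm a b }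
  have hexp : ∀ a : ↥V, a ^ p = 1 := fun a => Subtype.ext (hV.2 a a.2)
  set τ : MulAut ↥V := MulAut.conjNormal h with hτ
  have hτp : τ ^ p = 1 := by
    rw [hτ, ← map_pow]
    refine MulEquiv.ext fun a => Subtype.ext ?_
    rw [MulAut.conjNormal_apply, MulAut.one_apply]
    have h1 : (h ^ p) * (a : R) = a * h ^ p := congrArg Subtype.val (hV.1.is_comm.comm (⟨_, hhp⟩ : V) a)
    rw [h1, mul_inv_cancel_right]
  have hτmod : ∀ n : ℕ, τ ^ (n % p) = τ ^ n := fun n => (pow_eq_pow_mod n hτp).symm
  let χ : Multiplicative (ZMod p) →* MulAut ↥V :=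
    { toFun := fun t => τ ^ t.toAdd.val
      map_one' := by simp
      map_mul' := fun s t => by rw [toAdd_mul, ZMod.val_add, hτmod, pow_add] }
  -- the norm
  have hnorm : ∀ (w : ↥V) (n : ℕ), ((w : R) * h) ^ n * (h ^ n)⁻¹ = ((∏ i ∈ Finset.range n, (τ ^ i) w : ↥V) : R) := by
    intro w n
    induction n with
    | zero => simp
    | succ n ih =>
      rw [Finset.prod_range_succ, Subgroup.coe_mul, ← ih, hτ, ← map_pow, MulAut.conjNormal_apply,
        pow_succ, pow_succ]
      simp [mul_assoc]
  set s : ↥V → ↥V := fun w => ∏ j : ZMod p, χ (Multiplicative.ofAdd j) w with hsdef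
  have hnormp : ∀ w : ↥V, ((w : R) * h) ^ p * (h ^ p)⁻¹ = (s w : R) := fun w => by
    rw [hnorm w p, prod_range_eq_prod_zmod]
    rfl
  let v₀ : ↥V := ⟨v, hv⟩
  have hsv : s v₀ ≠ 1 := fun he => hs (by rw [show v = (v₀ : R) from rfl, hnormp v₀, he]; rfl)
  -- the linear map
  let f : Multiplicative (ZMod p → ZMod p) →* ↥V :=
    { toFun := fun a => ∏ j : ZMod p, (χ (Multiplicative.ofAdd j) v₀) ^ (a.toAdd j).val
      map_one' := by simp
      map_mul' := fun a b => by
        rw [← Finset.prod_mul_distrib]
        refine Finset.prod_congr rfl fun j _ => ?_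
        rw [toAdd_mul, Pi.add_apply, ZMod.val_add, ← pow_eq_pow_mod _ (hexp _), pow_add] }
  have hfsh : ∀ (t : Multiplicative (ZMod p)) a, f (shiftAut p t a) = χ t (f a) := by
    intro t a
    show ∏ j : ZMod p, (χ (Multiplicative.ofAdd j) v₀) ^ ((shiftAut p t a).toAdd j).val =
      χ t (∏ j : ZMod p, (χ (Multiplicative.ofAdd j) v₀) ^ (a.toAdd j).val)
    rw [map_prod]
    refine (Fintype.prod_equiv (Equiv.addRight t.toAdd) _ _ fun j => ?_).symm
    rw [shiftAut_apply, map_pow, ← MulAut.mul_apply, ← map_mul]
    simp [add_comm, ofAdd_add]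
    congr 1
    rw [← MulAut.mul_apply, ← MulAut.mul_apply, ← map_mul, ← map_mul, mul_comm]
  have hfinj : Function.Injective f := by
    rw [injective_iff_map_eq_one]
    intro a ha
    by_contra hne
    let L : Module.End (ZMod p) (ZMod p → ZMod p) :=
      { toFun := fun a j => a (j - 1), map_add' := fun _ _ => rfl, map_smul' := fun _ _ => rfl }
    have hL : ∀ (n : ℕ) (b : ZMod p → ZMod p), (L ^ n) b = fun j => b (j - (n : ZMod p)) := by
      intro n
      induction n with
      | zero => intro b; simp
      | succ n ih =>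
        intro b
        rw [pow_succ', Module.End.mul_apply, ih]
        funext j
        show b (j - 1 - (n : ZMod p)) = _
        congr 1
        push_cast; ring
    have hnil : (L - 1) ^ p = 0 := by
      have h1 := CfsgLib.HallHigman.sub_one_pow_char (K := ZMod p) p 1 L
      rw [pow_one] at h1
      rw [h1, sub_eq_zero]
      refine LinearMap.ext fun b => ?_
      rw [hL]
      funext j
      simp
    have hstab : ∀ b : ZMod p → ZMod p, f (Multiplicative.ofAdd b) = 1 →
        f (Multiplicative.ofAdd ((L - 1) b)) = 1 := by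
      intro b hb
      have h2 : f (Multiplicative.ofAdd (L b)) = 1 := by
        rw [show Multiplicative.ofAdd (L b) = shiftAut p (Multiplicative.ofAdd 1) (Multiplicative.ofAdd b) from rfl,
          hfsh, hb, map_one]
      rw [LinearMap.sub_apply, Module.End.one_apply, ofAdd_sub, map_div, h2, hb, div_one]
    have hex : ∃ n : ℕ, ((L - 1) ^ n) a.toAdd = 0 := ⟨p, by rw [hnil]; rfl⟩
    obtain ⟨k, hk⟩ : ∃ k, Nat.find hex = k + 1 := Nat.exists_eq_succ_of_ne_zero fun h0 => hne (by
      have := Nat.find_spec hex
      rw [h0, pow_zero] at this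
      exact Multiplicative.toAdd.injective this)
    set b := ((L - 1) ^ k) a.toAdd with hb
    have hbne : b ≠ 0 := Nat.find_min hex (by omega)
    have hfix : L b = b := by
      have h3 := Nat.find_spec hex
      rw [hk, pow_succ', Module.End.mul_apply, LinearMap.sub_apply, Module.End.one_apply, sub_eq_zero] at h3
      exact h3
    have hfb : f (Multiplicative.ofAdd b) = 1 := by
      rw [hb]
      clear hk hb hbne hfix b
      induction k with
      | zero => simpa using ha
      | succ k ih => rw [pow_succ', Module.End.mul_apply]; exact hstab _ ih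
    have hconst : ∀ n : ℕ, b (n : ZMod p) = b 0 := by
      intro n
      induction n with
      | zero => rw [Nat.cast_zero]
      | succ n ih =>
        rw [← ih]
        conv_lhs => rw [← hfix]
        show b (((n + 1 : ℕ) : ZMod p) - 1) = _
        congr 1; simp
    have hb0 : b 0 ≠ 0 := fun h0 => hbne (funext fun j => by rw [← ZMod.natCast_zmod_val j, hconst, h0]; rfl)
    have hfs : f (Multiplicative.ofAdd b) = (s v₀) ^ (b 0).val := by
      rw [hsdef]
      show ∏ j : ZMod p, (χ (Multiplicative.ofAdd j) v₀) ^ (b j).val = _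
      rw [← Finset.prod_pow]
      refine Finset.prod_congr rfl fun j _ => ?_
      rw [← ZMod.natCast_zmod_val j, hconst]
    rw [hfs] at hfb
    have ho : orderOf (s v₀) = p := orderOf_eq_prime (hexp _) hsv
    have hd := orderOf_dvd_of_pow_eq_one hfb
    rw [ho] at hd
    exact hb0 ((ZMod.val_eq_zero _).1 (Nat.eq_zero_of_dvd_of_lt hd (ZMod.val_lt _)))
  have hconj : ∀ (w : ↥V) (n : ℕ), h ^ n * (w : R) * (h ^ n)⁻¹ = ((τ ^ n) w : R) := fun w n => by
    rw [hτ, ← map_pow, MulAut.conjNormal_apply]
  have hhV : h ∉ V := by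
    intro hh
    apply hsv
    have hτ1 : τ = 1 := MulEquiv.ext fun a => Subtype.ext (by
      rw [hτ, MulAut.conjNormal_apply, MulAut.one_apply,
        show h * (a : R) = a * h from congrArg Subtype.val (hV.1.is_comm.comm (⟨_, hh⟩ : V) a),
        mul_inv_cancel_right])
    rw [hsdef]
    show ∏ j : ZMod p, (τ ^ j.val) v₀ = 1
    simp [hτ1, hexp]
  -- the reduction of `h ^ p`
  have hcen : ∀ r : R, h ^ p * r = r * h ^ p := by
    intro r
    have : (⊤ : Subgroup R) ≤ Subgroup.centralizer ({h ^ p} : Set R) := by
      rw [← hgen]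
      refine sup_le (fun a ha => ?_) (Subgroup.zpowers_le.2 ?_)
      · exact Subgroup.mem_centralizer_singleton_iff.2
          (congrArg Subtype.val (hV.1.is_comm.comm (⟨a, ha⟩ : V) ⟨_, hhp⟩))
      · exact Subgroup.mem_centralizer_singleton_iff.2 ((Commute.refl h).pow_right p).eq
    exact (Subgroup.mem_centralizer_singleton_iff.1 (this (Subgroup.mem_top r))).symm
  -- build the section from a quotient and a lift `g` of order `p`
  have build : ∀ (N : Subgroup R) [N.Normal] (g : R), g ^ p ∈ N → N ≤ V → (∀ a, ((f a : ↥V) : R) ∈ N → a = 1) →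
      g ∉ V → (∀ a : ↥V, g * (a : R) * g⁻¹ = h * (a : R) * h⁻¹) → Involves (WreathModel p) R := by
    intro N _ g hgp hNV hNf hgV hgconj
    set π := QuotientGroup.mk' N with hπ
    have hgp' : π g ^ p = 1 := by rw [← map_pow]; exact (QuotientGroup.eq_one_iff _).2 hgp
    let ι : Multiplicative (ZMod p) →* R ⧸ N :=
      { toFun := fun t => π g ^ t.toAdd.val
        map_one' := by simp
        map_mul' := fun s t => by rw [toAdd_mul, ZMod.val_add, ← pow_eq_pow_mod _ hgp', pow_add] }
    have hgn : ∀ (n : ℕ) (a : ↥V), g ^ n * (a : R) * (g ^ n)⁻¹ = ((τ ^ n) a : R) := by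
      intro n
      induction n with
      | zero => intro a; simp
      | succ n ih =>
        intro a
        rw [pow_succ', pow_succ', MulAut.mul_apply]
        calc g * g ^ n * (a : R) * (g * g ^ n)⁻¹ = g * (g ^ n * (a : R) * (g ^ n)⁻¹) * g⁻¹ := by group
          _ = _ := by rw [ih, hgconj, hτ, MulAut.conjNormal_apply]
    let ψ : WreathModel p →* R ⧸ N := SemidirectProduct.lift ((π.comp V.subtype).comp f) ι fun t => by
      refine MonoidHom.ext fun a => ?_
      show π ((f (shiftAut p t a) : ↥V) : R) = π g ^ t.toAdd.val * π ((f a : ↥V) : R) * (π g ^ t.toAdd.val)⁻¹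
      rw [hfsh, ← map_pow, ← map_inv, ← map_mul, ← map_mul, hgn]
      rfl
    have hψ : Function.Injective ψ := by
      rw [injective_iff_map_eq_one]
      intro w hw
      have hw' : π ((f w.left : ↥V) : R) * π g ^ w.right.toAdd.val = 1 := hw
      rw [← map_pow, ← map_mul] at hw'
      have h4 := (QuotientGroup.eq_one_iff _).1 hw'
      have hgvV : g ^ w.right.toAdd.val ∈ V := by
        have := V.mul_mem (V.inv_mem (f w.left).2) (hNV h4)
        rwa [inv_mul_cancel_left] at this
      have hr : w.right.toAdd.val = 0 := by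
        by_contra h5
        obtain ⟨m, hm⟩ := exists_pow_eq_self_of_coprime (x := π g) (n := w.right.toAdd.val)
          (Nat.Coprime.coprime_dvd_right (orderOf_dvd_of_pow_eq_one hgp')
            ((hp.out.coprime_iff_not_dvd.2 fun hd => h5 (Nat.eq_zero_of_dvd_of_lt hd (ZMod.val_lt _))).symm))
        apply hgV
        rw [← map_pow, ← map_pow, QuotientGroup.mk'_apply, QuotientGroup.mk'_apply, QuotientGroup.eq] at hm
        have h6 := V.mul_mem (pow_mem hgvV m) (hNV hm)
        rwa [mul_inv_cancel_left] at h6
      rw [hr, pow_zero, mul_one] at h4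
      refine SemidirectProduct.ext (hNf _ h4) ?_
      exact Multiplicative.toAdd.injective ((ZMod.val_eq_zero _).1 hr)
    exact CfsgLib.LocalEven.involves_of_surjective (ψ.range.comap π)
      ((MonoidHom.ofInjective hψ).symm.toMonoidHom.comp (π.subgroupComap ψ.range))
      ((MonoidHom.ofInjective hψ).symm.surjective.comp
        (π.subgroupComap_surjective_of_surjective ψ.range (QuotientGroup.mk'_surjective N)))
  by_cases hc : (⟨h ^ p, hhp⟩ : ↥V) ∈ f.range
  · obtain ⟨a, ha⟩ := hc
    -- `a` is constant
    have hfix : shiftAut p (Multiplicative.ofAdd 1) a = a := by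
      apply hfinj
      rw [hfsh, ha]
      show (τ ^ (1 : ZMod p).val) _ = _
      rw [ZMod.val_one, pow_one]
      exact Subtype.ext (by rw [hτ, MulAut.conjNormal_apply, ← hcen h, mul_inv_cancel_right])
    have hconst : ∀ n : ℕ, a.toAdd (n : ZMod p) = a.toAdd 0 := by
      intro n
      induction n with
      | zero => rw [Nat.cast_zero]
      | succ n ih =>
        have := congrFun (congrArg Multiplicative.toAdd hfix) ((n + 1 : ℕ) : ZMod p)
        rw [shiftAut_apply] at this
        rw [← this, ← ih]
        congr 1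
        simp
    set w : ↥V := (v₀ ^ (a.toAdd 0).val)⁻¹ with hw
    have hsw : s w = (⟨h ^ p, hhp⟩ : ↥V)⁻¹ := by
      rw [← ha]
      show ∏ j : ZMod p, χ (Multiplicative.ofAdd j) w = (∏ j : ZMod p, (χ (Multiplicative.ofAdd j) v₀) ^ (a.toAdd j).val)⁻¹
      rw [← Finset.prod_inv_distrib]
      refine Finset.prod_congr rfl fun j _ => ?_
      rw [hw, map_inv, map_pow]
      conv_rhs => rw [← ZMod.natCast_zmod_val j, hconst]
      rw [ZMod.natCast_zmod_val]
    refine build ⊥ ((w : R) * h) ?_ bot_le (fun b hb => hfinj ?_) ?_ fun x => ?_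
    · rw [Subgroup.mem_bot]
      have h7 := hnormp w
      rw [hsw] at h7
      calc ((w : R) * h) ^ p = (((w : R) * h) ^ p * (h ^ p)⁻¹) * h ^ p := by group
        _ = 1 := by rw [h7]; simp
    · rw [map_one]
      exact Subtype.ext (Subgroup.mem_bot.1 hb)
    · intro hh
      exact hhV (by simpa using V.mul_mem (V.inv_mem w.2) hh)
    · calc (w : R) * h * (x : R) * ((w : R) * h)⁻¹ = (w : R) * (h * (x : R) * h⁻¹) * (w : R)⁻¹ := by group
        _ = _ := by
          have hm : h * (x : R) * h⁻¹ ∈ V := (inferInstance : V.Normal).conj_mem _ x.2 h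
          rw [show (w : R) * (h * (x : R) * h⁻¹) = h * (x : R) * h⁻¹ * (w : R) from
            congrArg Subtype.val (hV.1.is_comm.comm w ⟨_, hm⟩), mul_inv_cancel_right]
  · haveI : (Subgroup.zpowers (h ^ p)).Normal := ⟨fun n hn r => by
      obtain ⟨i, rfl⟩ := Subgroup.mem_zpowers_iff.1 hn
      have h8 : Commute r (h ^ p) := (hcen r).symm
      rw [(h8.zpow_right i).eq, mul_inv_cancel_right]
      exact Subgroup.zpow_mem_zpowers _ i⟩
    refine build (Subgroup.zpowers (h ^ p)) h (Subgroup.mem_zpowers _) (Subgroup.zpowers_le.2 hhp) (fun b hb => ?_)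
      hhV fun x => rfl
    obtain ⟨i, hi⟩ := Subgroup.mem_zpowers_iff.1 hb
    by_contra hb1
    apply hc
    have hi' : (⟨h ^ p, hhp⟩ : ↥V) ^ i = f b := Subtype.ext hi
    have hne : f b ≠ 1 := fun h9 => hb1 (hfinj (h9.trans f.map_one.symm))
    have hp1 : (⟨h ^ p, hhp⟩ : ↥V) ≠ 1 := fun h9 => hne (by rw [← hi', h9, one_zpow])
    have ho := orderOf_eq_prime (hexp _) hp1
    have hmem : f b ∈ Subgroup.zpowers (⟨h ^ p, hhp⟩ : ↥V) := hi' ▸ Subgroup.zpow_mem_zpowers _ _
    have heq : Subgroup.zpowers (f b) = Subgroup.zpowers (⟨h ^ p, hhp⟩ : ↥V) := by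
      refine Subgroup.eq_of_le_of_card_ge (Subgroup.zpowers_le.2 hmem) ?_
      rw [Nat.card_zpowers, Nat.card_zpowers, ho, orderOf_eq_prime (hexp _) hne]
    exact Subgroup.zpowers_le.2 (⟨b, rfl⟩ : f b ∈ f.range) (heq ▸ Subgroup.mem_zpowers _)

end CfsgLib.PLengthHH
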