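import Cfsg.Agent.Lib.PLengthHH.Step
import Cfsg.Agent.Lib.PLengthHH.Wreath

/-! `p`-length one without a wreath product section. -/

set_option autoImplicit false

open Cfsg

namespace CfsgLib.PLengthHH

open scoped commutatorElement

universe u

variable {p : ℕ} [hp : Fact p.Prime]

theorem pLengthLE_one_or_involves {G : Type u} [Group G] [Finite G] (hp2 : p ≠ 2)
    (hnf : ¬ ∃ k : ℕ, p = 2 ^ k + 1) (hG : IsPSolvable p G) :
    PLengthLE p 1 G ∨ ∀ P : Sylow p G, Involves (WreathModel p) ↥(P : Subgroup G) := by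
  obtain ⟨D⟩ := exists_stepData (p := p) hG
  by_cases hd : p ∣ Nat.card D.H
  swap
  · exact Or.inl (D.pLengthLE_succ (CfsgLib.FGS68.pLengthLE_zero_of_not_dvd hd))
  refine Or.inr fun P => ?_
  obtain ⟨x, hx⟩ := exists_prime_orderOf_dvd_card' p hd
  have hxp : x ^ p = 1 := orderOf_dvd_iff_pow_eq_one.mp (dvd_of_eq hx)
  haveI hUn : (pCore p D.K).Normal := CfsgLib.Solvable.pCore_normal p D.K
  set U := pCore p D.K
  obtain ⟨k, hk, hkx⟩ := CfsgLib.FGS68.exists_pElement_lift D.π D.π_surj (y := x) ⟨1, by rw [pow_one, hxp]⟩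
  have hkp : k ^ p ∈ pCore p D.K := by
    rw [← D.π_ker, MonoidHom.mem_ker, map_pow, hkx, hxp]
  have hdeg : (D.R.ρ k - 1) ^ (p - 1) ≠ 0 := by
    intro h0
    have h := pow_eq_one_of_degree D.solH D.hOp D.ρ_inj hp2 (Or.inl hnf) (x := x) (n := 1) le_rfl
      (by rw [pow_one, hxp]) (r := p - 1) (by rw [← hkx, D.ρ_π]; exact h0)
      (by rw [pow_one]; have := hp.out.pos; omega)
    rw [Nat.sub_self, pow_zero, pow_one] at h
    rw [h, orderOf_one] at hx
    exact hp.out.one_lt.ne hx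
  obtain ⟨v, hv⟩ : ∃ v, ((D.R.ρ k - 1) ^ (p - 1)) (D.R.φ v) ≠ 0 := by
    by_contra hall
    push Not at hall
    exact hdeg (D.R.span _ hall)
  obtain ⟨w, hw, hsum⟩ := D.R.geom_sum k v p
  have hsp := CfsgLib.HallHigman.sub_one_pow_pred (K := Fbar p) p 1 (D.R.ρ k)
  rw [pow_one] at hsp
  rw [hsp, hsum, Ne, D.R.map_eq_zero] at hv
  -- the `p`-group `O_p(K)⟨k⟩`
  set Y := U ⊔ Subgroup.zpowers k
  have hY : IsPGroup p Y := by
    refine IsPGroup.to_sup_of_normal_left (CfsgLib.Solvable.pCore_isPGroup p D.K) ?_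
    obtain ⟨i, hi⟩ := hk
    rintro ⟨_, j, rfl⟩
    refine ⟨i, Subtype.ext ?_⟩
    show (k ^ j) ^ p ^ i = 1
    rw [← zpow_natCast, ← zpow_mul, mul_comm, zpow_mul, zpow_natCast, hi, one_zpow]
  set F := (frattini ↥U).map U.subtype with hF
  have hFn : F.Normal := inferInstance
  haveI : (F.subgroupOf Y).Normal := hFn.comap Y.subtype
  set π := QuotientGroup.mk' (F.subgroupOf Y)
  have hπs : Function.Surjective π := QuotientGroup.mk'_surjective _
  set V := (U.subgroupOf Y).map π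
  haveI : V.Normal := (hUn.comap Y.subtype).map π hπs
  have hUp : IsPGroup p U := CfsgLib.Solvable.pCore_isPGroup p D.K
  haveI := hUp.isNilpotent
  have hV : IsElementaryAbelian p V := by
    refine ⟨Subgroup.le_centralizer_iff_isMulCommutative.mp ?_, ?_⟩
    · rintro _ ⟨a, ha, rfl⟩ _ ⟨b, hb, rfl⟩
      rw [← map_mul, ← map_mul, QuotientGroup.mk'_apply, QuotientGroup.mk'_apply, QuotientGroup.eq,
        Subgroup.mem_subgroupOf]
      refine ⟨⁅(⟨(a : D.K), ha⟩ : U)⁻¹, (⟨(b : D.K), hb⟩ : U)⁻¹⁆,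
        CfsgLib.Transfer.commutator_le_frattini
          (Subgroup.commutator_mem_commutator (Subgroup.mem_top _) (Subgroup.mem_top _)), ?_⟩
      simp [commutatorElement_def, mul_assoc]
    · rintro _ ⟨a, ha, rfl⟩
      rw [← map_pow, QuotientGroup.mk'_apply, QuotientGroup.eq_one_iff, Subgroup.mem_subgroupOf]
      exact ⟨(⟨(a : D.K), ha⟩ : U) ^ p, CfsgLib.Transfer.pow_mem_frattini hUp _, rfl⟩
  have hkY : k ∈ Y := Subgroup.mem_sup_right (Subgroup.mem_zpowers k)
  have hgen : V ⊔ Subgroup.zpowers (π ⟨k, hkY⟩) = ⊤ := by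
    rw [← MonoidHom.map_zpowers, ← Subgroup.map_sup, ← Subgroup.map_top_of_surjective π hπs]
    congr 1
    apply Subgroup.map_injective Y.subtype_injective
    rw [Subgroup.map_sup, Subgroup.map_subgroupOf_eq_of_le le_sup_left, MonoidHom.map_zpowers,
      ← MonoidHom.range_eq_map, Subgroup.range_subtype]
    rfl
  have hinv : Involves (WreathModel p) (↥Y ⧸ F.subgroupOf Y) := by
    refine involves_wreathModel V hV hgen ?_ (v := π ⟨(v : D.K), Subgroup.mem_sup_left v.2⟩)
      ⟨_, v.2, rfl⟩ ?_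
    · rw [← map_pow]
      exact ⟨_, hkp, rfl⟩
    · intro h1
      apply hv
      rw [← map_mul, ← map_pow, ← map_pow, ← map_inv, ← map_mul, QuotientGroup.mk'_apply,
        QuotientGroup.eq_one_iff, Subgroup.mem_subgroupOf] at h1
      simp only [Subgroup.coe_mul, Subgroup.coe_inv, Subgroup.coe_pow] at h1
      rw [← hw] at h1
      obtain ⟨w', hw', he⟩ := h1
      rwa [show w' = w from Subtype.ext he] at hw'
  obtain ⟨L, f, hf⟩ := CfsgLib.LocalEven.exists_surjective_of_involves hinv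
  -- transport to `P`
  obtain ⟨T, hT⟩ := hY.exists_le_sylow
  obtain ⟨S, rfl⟩ := Sylow.mapSurjective_surjective D.toK_surj p T
  rw [Sylow.coe_mapSurjective] at hT
  let e : ↥(S : Subgroup G) ≃* ↥(P : Subgroup G) := Sylow.equiv S P
  let g : ↥(S : Subgroup G) →* D.K := D.toK.comp (S : Subgroup G).subtype
  let K1 : Subgroup ↥(S : Subgroup G) := Y.comap g
  let g1 : ↥K1 →* ↥Y := g.subgroupComap Y
  have hg1 : Function.Surjective g1 := by
    rintro ⟨y, hy⟩
    obtain ⟨s, hs, hsy⟩ := hT hy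
    refine ⟨⟨⟨s, hs⟩, ?_⟩, Subtype.ext hsy⟩
    show D.toK s ∈ Y
    rw [hsy]
    exact hy
  let g2 : ↥K1 →* ↥Y ⧸ F.subgroupOf Y := π.comp g1
  have hg2 : Function.Surjective g2 := hπs.comp hg1
  let K2 : Subgroup ↥K1 := L.comap g2
  let g3 : ↥(K2.map K1.subtype) →* WreathModel p :=
    (f.comp (g2.subgroupComap L)).comp (K2.equivMapOfInjective K1.subtype K1.subtype_injective).symm.toMonoidHom
  have hg3 : Function.Surjective g3 :=
    (hf.comp (g2.subgroupComap_surjective_of_surjective L hg2)).comp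
      (K2.equivMapOfInjective K1.subtype K1.subtype_injective).symm.surjective
  exact CfsgLib.LocalEven.involves_of_surjective ((K2.map K1.subtype).map e.toMonoidHom)
    (g3.comp ((K2.map K1.subtype).equivMapOfInjective e.toMonoidHom e.injective).symm.toMonoidHom)
    (hg3.comp ((K2.map K1.subtype).equivMapOfInjective e.toMonoidHom e.injective).symm.surjective)

end CfsgLib.PLengthHH
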