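import Cfsg.Agent.Lib.FGS68.PLength
import Cfsg.Agent.Lib.HallHigman.TheoremB
import Cfsg.Agent.Lib.PLocal.PSolvable

/-! The representation on `O_p / Φ(O_p)` over an algebraic closure, and powers of `v h`. -/

set_option autoImplicit false

open Cfsg

namespace CfsgLib.PLengthHH

open scoped commutatorElement

universe u

variable {p : ℕ} [hp : Fact p.Prime]

/-- An algebraic closure of the prime field. -/
abbrev Fbar (p : ℕ) [Fact p.Prime] : Type := AlgebraicClosure (ZMod p)

instance charP_fbar : CharP (Fbar p) p :=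
  charP_of_injective_algebraMap (algebraMap (ZMod p) (Fbar p)).injective p

/-- A faithful linear shadow of the action of `K` on `O_p(K) / Φ(O_p(K))`. -/
structure FrattiniRep (p : ℕ) [Fact p.Prime] (K : Type u) [Group K] where
  dim : ℕ
  φ : ↥(pCore p K) → (Fin dim → Fbar p)
  ρ : K →* Module.End (Fbar p) (Fin dim → Fbar p)
  map_mul : ∀ v w, φ (v * w) = φ v + φ w
  map_eq_zero : ∀ v, φ v = 0 ↔ v ∈ frattini ↥(pCore p K)
  conj : ∀ (g : K) (v w : ↥(pCore p K)), (w : K) = g * v * g⁻¹ → ρ g (φ v) = φ w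
  span : ∀ f : Module.End (Fbar p) (Fin dim → Fbar p), (∀ v, f (φ v) = 0) → f = 0
  ker : ∀ g, ρ g = 1 ↔ g ∈ pCore p K

theorem exists_frattiniRep {K : Type u} [Group K] [Finite K] (hsol : IsPSolvable p K)
    (hO : pPrimeCore p K = ⊥) : Nonempty (FrattiniRep p K) := by
  classical
  haveI hP₀ : (pCore p K).Normal := CfsgLib.Solvable.pCore_normal (p := p) K
  set P₀ := pCore p K with hP₀d
  have hP₀p : IsPGroup p P₀ := CfsgLib.Solvable.pCore_isPGroup (p := p) K
  haveI := hP₀p.isNilpotent
  letI : CommGroup (↥P₀ ⧸ frattini ↥P₀) :=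
    { (inferInstance : Group (↥P₀ ⧸ frattini ↥P₀)) with
      mul_comm := fun a b => by
        induction a using QuotientGroup.induction_on with | _ u => ?_
        induction b using QuotientGroup.induction_on with | _ v => ?_
        rw [← QuotientGroup.mk_mul, ← QuotientGroup.mk_mul, QuotientGroup.eq]
        have : (u * v)⁻¹ * (v * u) = ⁅v⁻¹, u⁻¹⁆ := by simp [commutatorElement_def, mul_assoc]
        rw [this]
        exact CfsgLib.Transfer.commutator_le_frattini
          (Subgroup.commutator_mem_commutator (Subgroup.mem_top _) (Subgroup.mem_top _)) }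
  have hp0 : ∀ w : Additive (↥P₀ ⧸ frattini ↥P₀), p • w = 0 := fun w => by
    obtain ⟨w, rfl⟩ := Additive.ofMul.surjective w
    induction w using QuotientGroup.induction_on with | _ v => ?_
    rw [← ofMul_pow, ← QuotientGroup.mk_pow,
      (QuotientGroup.eq_one_iff _).2 (CfsgLib.Transfer.pow_mem_frattini hP₀p v), ofMul_one]
  obtain ⟨instMod⟩ : Nonempty (Module (ZMod p) (Additive (↥P₀ ⧸ frattini ↥P₀))) := ⟨AddCommGroup.zmodModule hp0⟩
  haveI : Finite (Additive (↥P₀ ⧸ frattini ↥P₀)) := inferInstanceAs (Finite (↥P₀ ⧸ frattini ↥P₀))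
  haveI : Module.Finite (ZMod p) (Additive (↥P₀ ⧸ frattini ↥P₀)) := Module.Finite.of_finite
  let b : Module.Basis (Fin (Module.finrank (ZMod p) (Additive (↥P₀ ⧸ frattini ↥P₀)))) (ZMod p) (Additive (↥P₀ ⧸ frattini ↥P₀)) :=
    Module.finBasis (ZMod p) (Additive (↥P₀ ⧸ frattini ↥P₀))
  let Φ : Module.End (ZMod p) (Additive (↥P₀ ⧸ frattini ↥P₀)) →+*
      Module.End (Fbar p) (Fin (Module.finrank (ZMod p) (Additive (↥P₀ ⧸ frattini ↥P₀))) → Fbar p) :=
    (Matrix.toLinAlgEquiv' (R := Fbar p)).toAlgHom.toRingHom.comp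
      ((algebraMap (ZMod p) (Fbar p)).mapMatrix.comp (LinearMap.toMatrixAlgEquiv b).toAlgHom.toRingHom)
  have hΦinj : Function.Injective Φ :=
    (Matrix.toLinAlgEquiv' (R := Fbar p)).injective.comp
      ((Matrix.map_injective (algebraMap (ZMod p) (Fbar p)).injective).comp (LinearMap.toMatrixAlgEquiv b).injective)
  let ψ : Additive (↥P₀ ⧸ frattini ↥P₀) → (Fin (Module.finrank (ZMod p) (Additive (↥P₀ ⧸ frattini ↥P₀))) → Fbar p) :=
    fun a j => algebraMap (ZMod p) (Fbar p) (b.repr a j)
  have hΦψ : ∀ (f : Module.End (ZMod p) (Additive (↥P₀ ⧸ frattini ↥P₀))) a, Φ f (ψ a) = ψ (f a) := by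
    intro f a
    funext j
    show Matrix.toLin' ((LinearMap.toMatrix b b f).map (algebraMap (ZMod p) (Fbar p))) (ψ a) j = _
    rw [Matrix.toLin'_apply]
    simp only [ψ]
    rw [← LinearMap.toMatrix_mulVec_repr b b f a, RingHom.map_mulVec]
    rfl
  have hψinj : Function.Injective ψ := fun a a' h => b.repr.injective (Finsupp.ext fun j =>
    (algebraMap (ZMod p) (Fbar p)).injective (congrFun h j))
  let c := CfsgLib.StdForm.conjQuot P₀ (frattini ↥P₀)
  let τ : K →* Module.End (ZMod p) (Additive (↥P₀ ⧸ frattini ↥P₀)) :=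
    { toFun := fun x => (MonoidHom.toAdditive (c x).toMonoidHom).toZModLinearMap p
      map_one' := by ext w; simp only [map_one]; rfl
      map_mul' := fun g h => by ext w; simp only [_root_.map_mul]; rfl }
  refine ⟨{ dim := _, φ := fun v => ψ (Additive.ofMul (v : ↥P₀ ⧸ frattini ↥P₀)),
            ρ := Φ.toMonoidHom.comp τ, map_mul := ?_, map_eq_zero := ?_, conj := ?_, span := ?_, ker := ?_ }⟩
  · intro v w
    rw [QuotientGroup.mk_mul, ofMul_mul]
    funext j
    simp [ψ]
  · intro v
    have h0 : ψ 0 = 0 := by funext j; simp [ψ]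
    rw [← h0, hψinj.eq_iff, ofMul_eq_zero, QuotientGroup.eq_one_iff]
  · intro g v w hw
    show Φ (τ g) _ = _
    rw [hΦψ]
    have hw' : w = MulAut.conjNormal g v := Subtype.ext (by rw [hw, MulAut.conjNormal_apply])
    rw [hw']
    rfl
  · intro f hf
    refine (Pi.basisFun (Fbar p) (Fin _)).ext fun j => ?_
    obtain ⟨v, hv⟩ := QuotientGroup.mk_surjective (Additive.toMul (b j))
    have h1 := hf v
    rw [hv, ofMul_toMul] at h1
    have h2 : ψ (b j) = Pi.basisFun (Fbar p) (Fin _) j := by
      funext i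
      simp [ψ, Pi.single_apply, Finsupp.single_apply, eq_comm]
    rw [← h2, LinearMap.zero_apply]
    exact h1
  · intro g
    have h1 : Φ.toMonoidHom.comp τ g = 1 ↔ ∀ v : P₀, MulAut.conjNormal g v * v⁻¹ ∈ frattini ↥P₀ := by
      rw [← CfsgLib.StdForm.mem_ker_conjQuot, MonoidHom.mem_ker]
      constructor
      · intro h
        have h' : τ g = 1 := hΦinj (h.trans Φ.map_one.symm)
        refine MulEquiv.ext fun w => ?_
        have := LinearMap.congr_fun h' (Additive.ofMul w)
        exact Additive.ofMul.injective this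
      · intro h
        show Φ (τ g) = 1
        rw [show τ g = 1 from LinearMap.ext fun w => congrArg Additive.ofMul
          (MulEquiv.congr_fun h (Additive.toMul w)), _root_.map_one]
    constructor
    · intro h
      have h2 := h1.1 h
      obtain ⟨k, hk⟩ := IsPGroup.iff_card.1 (hP₀p.to_subgroup (frattini ↥P₀))
      have hle : (CfsgLib.StdForm.conjQuot P₀ (frattini ↥P₀)).ker ≤ P₀ := by
        refine CfsgLib.PLoc.le_pCore_of inferInstance (CfsgLib.PLoc.isPGroup_of_coprime_order_trivial ?_)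
        intro x hx hxc
        have hxT : ∀ y ∈ Subgroup.zpowers x, ∀ v : P₀, MulAut.conjNormal y v * v⁻¹ ∈ frattini ↥P₀ :=
          fun y hy => CfsgLib.StdForm.mem_ker_conjQuot.1 (Subgroup.zpowers_le.2 hx hy)
        have hxc' := CfsgLib.Solvable.le_centralizer_of_trivial_on_frattini_quotient
          (A := Subgroup.zpowers x) (K := P₀) (by rw [Nat.card_zpowers, hk]; exact hxc.pow_right k)
          (fun y hy v hv => ⟨_, hxT y hy ⟨v, hv⟩, rfl⟩) (Subgroup.mem_zpowers x)
        obtain ⟨i, hi⟩ := hP₀p ⟨x, CfsgLib.PLoc.centralizer_pCore_le_self hsol hO hxc'⟩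
        exact orderOf_eq_one_iff.1 (Nat.eq_one_of_dvd_coprimes (hxc.pow_right i) dvd_rfl
          (orderOf_dvd_of_pow_eq_one (congrArg Subtype.val hi)))
      exact hle (CfsgLib.StdForm.mem_ker_conjQuot.2 h2)
    · intro hg
      refine h1.2 fun v => ?_
      have e : MulAut.conjNormal g v * v⁻¹ = ⁅(⟨g, hg⟩ : P₀), v⁆ := by
        apply Subtype.ext
        simp [commutatorElement_def, mul_assoc]
      rw [e]
      exact CfsgLib.Transfer.commutator_le_frattini
        (Subgroup.commutator_mem_commutator (Subgroup.mem_top _) (Subgroup.mem_top _))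

end CfsgLib.PLengthHH
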